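import Cfsg.Agent.H85.Ore.Phi_mg_m3
import Cfsg.Agent.H934.MF.Diag
import Cfsg.Agent.H643.PwCnt
import Cfsg.Agent.FastGrp
import Cfsg.Agent.Prune
set_option linter.all false

section
prune_inst 0x7ffdadf9ffbce3ffdfff7e7ffed6ddfdf9bf1fffa6dffdcb7fe861ffabdf2b8249c5638d19e010fe1ff7c23410a87803fb7eefffea6fdc7ffffdfff41ffbee4fe5f6b50851948c340f380ff703f07f8e7f3fffffffffffffffffffffffffffbeffbfffffffff

-- part: H85/Ore/Wt
section
set_option linter.all false
open scoped Cfsg.Agent.FastGrp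

/-!
# The weights of the roots outside the block (S2443, S4171)

* `wt D j q b = ∑_{a ≥ b} ⟨q, α_{j a}⟩` : the exponent of `λ_b` in the value of the root `q`;
* `prod_wt` : `∏_a (∏_{b ≤ a} λ_b)^{⟨q, α_{j a}⟩} = ∏_b λ_b^{wt q b}`;
* `chkW8`, `chkW7` : the weights outside `A_7` in `E_8`, `A_6` in `E_7` take two consecutive values;
* `ne_one` : the value is not `1` for the eigenvalues of `Zet`.
-/

set_option autoImplicit false
set_option linter.unusedSectionVars false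

namespace Cfsg.Agent.H85.Ore

open CoxeterSystem Cfsg.Agent.ChevalleyStructure.CoxeterGeom Cfsg.Agent.Tits.Roots Cfsg.Agent.Tits.Core
  Cfsg.Agent.Nodes.Reps Cfsg.Agent.Nodes.BNOf Cfsg.Agent.Nodes.RGDLib Cfsg.Agent.Nodes.Bruhat
open Cfsg.Lie Cfsg.Agent.ChevalleyStructure Cfsg.Agent.ChevalleyStructure.Elts
  Cfsg.Agent.ChevalleyStructure.RootVec Cfsg.Agent.ChevalleyStructure.NPerm
  Cfsg.Agent.ChevalleyStructure.CoxeterGeomTypes Cfsg.Agent.Nodes.RGDChev Cfsg.Agent.KFacts.RgdChevCoord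

/-- the weights of a root -/
def wt (D : ChevalleyDatum) {l n : ℕ} (j : Fin (n + 1) → Fin l) (q : ℕ) (b : Fin (n + 2)) : ℤ :=
  ∑ a : Fin (n + 1), if b ≤ a.castSucc then D.cartan (j a) q else 0

/-- the table of the weights -/
def ChkW (D : ChevalleyDatum) (l : ℕ) (J : List (Fin l)) (n : ℕ) (j : Fin (n + 1) → Fin l) : Prop :=
  ∀ q < D.nroots, (∃ k : Fin l, k ∉ J ∧ vec D l q k ≠ 0) →
    ((∀ b, wt D j q b = 0 ∨ wt D j q b = 1) ∧ ∃ b, wt D j q b = 1) ∨
    ((∀ b, wt D j q b = -1 ∨ wt D j q b = 0) ∧ ∃ b, wt D j q b = -1)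

instance (D : ChevalleyDatum) (l : ℕ) (J : List (Fin l)) (n : ℕ) (j : Fin (n + 1) → Fin l) :
    Decidable (ChkW D l J n j) := by
  unfold ChkW
  refine @Nat.decidableBallLT _ _ fun q _ => ?_
  infer_instance

/-- the simple roots of the block of `E_8` -/
abbrev j8 : Fin 7 → Fin 8 := ![0, 2, 3, 4, 5, 6, 7]

/-- the simple roots of the block of `E_7` -/
abbrev j7 : Fin 6 → Fin 7 := ![0, 2, 3, 4, 5, 6]

private def wtF (D : ChevalleyDatum) {l n : ℕ} (j : Fin (n + 1) → Fin l) (q : ℕ) (b : Fin (n + 2)) : ℤ :=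
  ∑ a : Fin (n + 1), if b ≤ a.castSucc then ((RootVecTab.cart D (j a) q : ℕ) : ℤ) - 8 else 0

private theorem chkW_of {D : ChevalleyDatum} {l : ℕ} {J : List (Fin l)} {n : ℕ} {j : Fin (n + 1) → Fin l}
    (hD : RootVecTab.Checked D) (hl : D.rank = l)
    (h : ∀ q < D.nroots, (∃ k : Fin l, k ∉ J ∧ vec D l q k ≠ 0) →
      ((∀ b, wtF D j q b = 0 ∨ wtF D j q b = 1) ∧ ∃ b, wtF D j q b = 1) ∨
      ((∀ b, wtF D j q b = -1 ∨ wtF D j q b = 0) ∧ ∃ b, wtF D j q b = -1)) : ChkW D l J n j := fun q hq hk => by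
  have e : wt D j q = wtF D j q := funext fun b => Finset.sum_congr rfl fun a _ => by
    rw [RootVec.cartan_eq_cart hD (hl ▸ (j a).2) hq]
  rw [e]
  exact h q hq hk

theorem chkW8 : ChkW chevE8 8 J8 6 j8 := chkW_of RootVecTab.checked_E8 rfl
  (@of_decide_eq_true _ (@Nat.decidableBallLT _ _ fun _ _ => inferInstance) (by decide +kernel))

theorem chkW7 : ChkW chevE7 7 J7 5 j7 := chkW_of RootVecTab.checked_E7 rfl
  (@of_decide_eq_true _ (@Nat.decidableBallLT _ _ fun _ _ => inferInstance) (by decide +kernel))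

theorem r8_simple : ∀ a : Fin 7, r8 a.castSucc a.succ = chevE8.simple (j8 a) := by decide +kernel

theorem r7_simple : ∀ a : Fin 6, r7 a.castSucc a.succ = chevE7.simple (j7 a) := by decide +kernel

section

variable {D : ChevalleyDatum} {l n : ℕ} {j : Fin (n + 1) → Fin l}

theorem wt_last (q : ℕ) : wt D j q (Fin.last (n + 1)) = 0 := by
  unfold wt
  refine Finset.sum_eq_zero fun a _ => ?_
  rw [if_neg (not_le.2 (Fin.castSucc_lt_last a))]

theorem prod_zpow' {K' : Type*} [Field K'] {x : K'} (hx : x ≠ 0) {ι : Type*} (s : Finset ι) (f : ι → ℤ) :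
    ∏ i ∈ s, x ^ f i = x ^ ∑ i ∈ s, f i := by
  classical
  induction s using Finset.induction_on with
  | empty => simp
  | insert a s ha ih => rw [Finset.prod_insert ha, Finset.sum_insert ha, zpow_add₀ hx, ih]

theorem prod_wt {K' : Type*} [Field K'] {lam : Fin (n + 2) → K'} (h0 : ∀ a, lam a ≠ 0) (q : ℕ) :
    ∏ a : Fin (n + 1), (∏ b ∈ Finset.univ.filter (fun b : Fin (n + 2) => b ≤ a.castSucc), lam b) ^ D.cartan (j a) q =
      ∏ b, lam b ^ wt D j q b := by
  have h1 : ∀ a : Fin (n + 1),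
      (∏ b ∈ Finset.univ.filter (fun b : Fin (n + 2) => b ≤ a.castSucc), lam b) ^ D.cartan (j a) q =
        ∏ b, lam b ^ (if b ≤ a.castSucc then D.cartan (j a) q else 0) := by
    intro a
    rw [← Finset.prod_zpow, Finset.prod_filter]
    refine Finset.prod_congr rfl fun b _ => ?_
    split_ifs
    · rfl
    · rw [zpow_zero]
  rw [Finset.prod_congr rfl fun a _ => h1 a, Finset.prod_comm]
  refine Finset.prod_congr rfl fun b _ => ?_
  rw [prod_zpow' (h0 b)]
  rfl

open Cfsg.Agent.H224.Ore.Zeta in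
/-- **The value of a root outside the block is not `1`.** -/
theorem ne_one' {K K' : Type*} [Field K] [Field K'] {i : K →+* K'} {ν : K} {p : Polynomial K}
    {lam : Fin (n + 2) → K'} (H : Zet i (n + 1) ν p lam) {J : List (Fin l)} (hW : ChkW D l J n j) {q : ℕ}
    (hq : q < D.nroots) (hk : ∃ k : Fin l, k ∉ J ∧ vec D l q k ≠ 0) : ∏ b, lam b ^ wt D j q b ≠ 1 := by
  have hl := wt_last (D := D) (j := j) q
  rcases hW q hq hk with ⟨h, b, hb⟩ | ⟨h, b, hb⟩
  · exact H.zprod (wt D j q) 0 (fun a => by simpa using h a) ⟨_, hl⟩ ⟨b, by rw [hb]; norm_num⟩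
  · exact H.zprod (wt D j q) (-1) (fun a => by simpa using h a) ⟨b, hb⟩ ⟨_, by rw [hl]; norm_num⟩

end

end Cfsg.Agent.H85.Ore
end

-- part: H85/Ore/EEight
section
prune_inst 0x100400001c0020000000010920020600200000200030800608001000541884289020e203830020000c03404003c4040000000090020000000000000011a018010000000a0080008420088000000000000000000000000000000000000000000000000000
set_option linter.all false
open scoped Cfsg.Agent.FastGrp

-- part: H335/Sr/SyCls
section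
/-!
# Symmetric intertwiners of cyclic matrices (helper335)

* `Sy.of_cls` : a cyclic matrix whose centralizer has elements of every determinant has symmetric intertwiners of
  every determinant;
* `Sy.of_irreducible`, `Sy.of_nice`, `Sy.conj`, `Sy.conj_gl`, `Sy.inv`.
-/

set_option autoImplicit false
set_option linter.unusedSectionVars false

namespace Cfsg.Agent.H335.Sr

open Module Polynomial Matrix Cfsg.Agent.H166.Cov Cfsg.Agent.H150.MF

universe u

variable {F : Type u} [Field F] {n : ℕ}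

/-- the matrix with columns `X ^ j v` -/
def cyc (X : Matrix (Fin n) (Fin n) F) (v : Fin n → F) : Matrix (Fin n) (Fin n) F :=
  Matrix.of fun i j => ((X ^ (j : ℕ)) *ᵥ v) i

theorem mul_cyc (X K : Matrix (Fin n) (Fin n) F) (v : Fin n → F) (i j : Fin n) :
    (K * cyc X v) i j = (K *ᵥ ((X ^ (j : ℕ)) *ᵥ v)) i := by
  rw [mul_apply]
  rfl

/-- all intertwiners of a cyclic matrix are symmetric -/
theorem symm_of_cyc {X K : Matrix (Fin n) (Fin n) F} {v : Fin n → F} (hv : IsUnit (cyc X v).det)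
    (hK : Xᵀ * K = K * X) : Kᵀ = K := by
  have hpow : ∀ i : ℕ, (Xᵀ) ^ i * K = K * X ^ i := by
    intro i
    induction i with
    | zero => simp
    | succ i ih => rw [pow_succ, pow_succ, mul_assoc, hK, ← mul_assoc, ih, mul_assoc]
  have h1 : ∀ i j : Fin n, ((cyc X v)ᵀ * (K * cyc X v)) i j = v ⬝ᵥ ((K * X ^ ((i : ℕ) + (j : ℕ))) *ᵥ v) := by
    intro i j
    rw [mul_apply]
    have h2 : ∀ k, (cyc X v)ᵀ i k * (K * cyc X v) k j =
        ((X ^ (i : ℕ)) *ᵥ v) k * (K *ᵥ ((X ^ (j : ℕ)) *ᵥ v)) k := fun k => by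
      rw [mul_cyc]
      rfl
    simp only [h2]
    change ((X ^ (i : ℕ)) *ᵥ v) ⬝ᵥ (K *ᵥ ((X ^ (j : ℕ)) *ᵥ v)) = _
    rw [pow_add, ← mul_assoc, ← hpow, ← transpose_pow, ← mulVec_mulVec, ← mulVec_mulVec]
    rw [dotProduct_mulVec v, vecMul_transpose]
  have h3 : (cyc X v)ᵀ * (Kᵀ * cyc X v) = (cyc X v)ᵀ * (K * cyc X v) := by
    have h4 : (cyc X v)ᵀ * (Kᵀ * cyc X v) = ((cyc X v)ᵀ * (K * cyc X v))ᵀ := by
      rw [transpose_mul, transpose_mul, transpose_transpose, mul_assoc]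
    rw [h4]
    ext i j
    rw [transpose_apply, h1, h1, add_comm]
  have hu : IsUnit (cyc X v) := (Matrix.isUnit_iff_isUnit_det _).2 hv
  have hu' : IsUnit (cyc X v)ᵀ := by
    rw [Matrix.isUnit_iff_isUnit_det, det_transpose]
    exact hv
  exact hu.mul_right_cancel (hu'.mul_left_cancel h3)

/-- a cocyclic functional gives a cyclic vector and an intertwiner -/
theorem exists_cyc {X : Matrix (Fin n) (Fin n) F} (h : Coc (Matrix.toLin' X)) :
    ∃ (v : Fin n → F) (H : Matrix (Fin n) (Fin n) F), IsUnit (cyc X v).det ∧ IsUnit H.det ∧ Xᵀ * H = H * X := by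
  obtain ⟨φ, hφ⟩ := h
  -- the rows `φ X ^ i`
  set R : Matrix (Fin n) (Fin n) F := Matrix.of fun i j => φ ((X ^ (i : ℕ)) *ᵥ Pi.single j 1) with hR
  have hRv : ∀ (i : Fin n) (v : Fin n → F), (R *ᵥ v) i = φ ((X ^ (i : ℕ)) *ᵥ v) := by
    intro i v
    have h1 : v = ∑ j, v j • (Pi.single j 1 : Fin n → F) := by
      funext k
      rw [Finset.sum_apply, Finset.sum_eq_single k]
      · simp
      · intro b _ hb
        simp [Pi.single_eq_of_ne hb.symm]
      · intro h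
        exact absurd (Finset.mem_univ k) h
    conv_rhs => rw [h1]
    rw [mulVec_sum, map_sum, mulVec, dotProduct]
    refine Finset.sum_congr rfl fun j _ => ?_
    rw [mulVec_smul, map_smul, smul_eq_mul, mul_comm]
    rfl
  have hRinj : ∀ v : Fin n → F, R *ᵥ v = 0 → v = 0 := by
    intro v hv
    have h0 : ∀ i : ℕ, i < n → φ ((X ^ i) *ᵥ v) = 0 := by
      intro i hi
      have := congrFun hv ⟨i, hi⟩
      rw [hRv] at this
      exact this
    have hall : ∀ k : ℕ, φ ((X ^ k) *ᵥ v) = 0 := by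
      intro k
      have h1 : X ^ k = aeval X ((Polynomial.X : F[X]) ^ k %ₘ X.charpoly) := by
        have h2 := Polynomial.modByMonic_add_div ((Polynomial.X : F[X]) ^ k) X.charpoly
        have h3 := congrArg (aeval X) h2
        rw [map_add, map_mul, Matrix.aeval_self_charpoly, zero_mul, add_zero, map_pow, aeval_X] at h3
        exact h3.symm
      rw [h1]
      set g := (Polynomial.X : F[X]) ^ k %ₘ X.charpoly with hg
      rw [Polynomial.aeval_eq_sum_range, Matrix.sum_mulVec, map_sum]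
      refine Finset.sum_eq_zero fun i hi => ?_
      rw [smul_mulVec, map_smul]
      by_cases hc : g.coeff i = 0
      · rw [hc, zero_smul]
      · have h5 : i < n := by
          have h6 : g.degree < X.charpoly.degree := Polynomial.degree_modByMonic_lt _ (Matrix.charpoly_monic X)
          have h7 : (i : WithBot ℕ) ≤ g.degree := Polynomial.le_degree_of_ne_zero hc
          rw [Matrix.charpoly_degree_eq_dim, Fintype.card_fin] at h6
          exact_mod_cast h7.trans_lt h6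
        rw [h0 i h5, smul_zero]
    have hS := hφ (⨅ k : ℕ, LinearMap.ker (φ ∘ₗ Matrix.toLin' (X ^ k))) (fun x hx => by
        have := (Submodule.mem_iInf _).1 hx 0
        rw [LinearMap.mem_ker, LinearMap.comp_apply, toLin'_apply, pow_zero, one_mulVec] at this
        exact this) (fun x hx => by
        refine (Submodule.mem_iInf _).2 fun k => ?_
        have := (Submodule.mem_iInf _).1 hx (k + 1)
        rw [LinearMap.mem_ker, LinearMap.comp_apply, toLin'_apply] at this ⊢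
        rw [toLin'_apply, mulVec_mulVec, ← pow_succ]
        exact this)
    have hv' : v ∈ (⨅ k : ℕ, LinearMap.ker (φ ∘ₗ Matrix.toLin' (X ^ k))) := by
      refine (Submodule.mem_iInf _).2 fun k => ?_
      rw [LinearMap.mem_ker, LinearMap.comp_apply, toLin'_apply]
      exact hall k
    rw [hS] at hv'
    exact (Submodule.mem_bot F).1 hv'
  have hRdet : R.det ≠ 0 := by
    intro h0
    obtain ⟨v, hv0, hv⟩ := Matrix.exists_mulVec_eq_zero_iff.2 h0
    exact hv0 (hRinj v hv)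
  rcases Nat.eq_zero_or_pos n with hn | hn
  · subst hn
    refine ⟨0, 1, ?_, ?_, ?_⟩
    · rw [det_isEmpty]; exact isUnit_one
    · rw [det_one]; exact isUnit_one
    · exact Subsingleton.elim _ _
  -- the cyclic vector
  obtain ⟨v, hv⟩ : ∃ v : Fin n → F, R *ᵥ v = Pi.single ⟨n - 1, by omega⟩ 1 := by
    refine ⟨R⁻¹ *ᵥ Pi.single ⟨n - 1, by omega⟩ 1, ?_⟩
    rw [mulVec_mulVec, mul_nonsing_inv R (isUnit_iff_ne_zero.2 hRdet), one_mulVec]
  have hlow : ∀ k : ℕ, k < n → φ ((X ^ k) *ᵥ v) = if k = n - 1 then 1 else 0 := by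
    intro k hk
    have h1 := congrFun hv ⟨k, hk⟩
    rw [hRv] at h1
    change φ ((X ^ k) *ᵥ v) = _ at h1
    rw [h1]
    by_cases h2 : k = n - 1
    · subst h2
      simp
    · rw [if_neg h2, Pi.single_eq_of_ne]
      intro h3
      exact h2 (congrArg Fin.val h3)
  have hG : ∀ i j : Fin n, (R * cyc X v) i j = φ ((X ^ ((i : ℕ) + (j : ℕ))) *ᵥ v) := by
    intro i j
    rw [mul_cyc, hRv, mulVec_mulVec, ← pow_add]
  have hdet : ((R * cyc X v).submatrix id Fin.revPerm).det = 1 := by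
    rw [det_of_isLowerTriangular]
    · refine Finset.prod_eq_one fun i _ => ?_
      rw [submatrix_apply, hG, id, Fin.revPerm_apply, Fin.val_rev]
      have h3 : (i : ℕ) + (n - (i + 1)) = n - 1 := by omega
      rw [h3, hlow (n - 1) (by omega), if_pos rfl]
    · intro i j hij
      rw [submatrix_apply, hG, id, Fin.revPerm_apply, Fin.val_rev]
      have hij' : (i : ℕ) < j := hij
      have h3 : (i : ℕ) + (n - (j + 1)) < n := by omega
      rw [hlow _ h3, if_neg (by omega)]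
  have hdet' : (R * cyc X v).det ≠ 0 := by
    intro h0
    rw [det_permute', h0, mul_zero] at hdet
    exact zero_ne_one hdet
  have hC : (cyc X v).det ≠ 0 := by
    rw [det_mul] at hdet'
    exact right_ne_zero_of_mul hdet'
  have hCu : IsUnit (cyc X v).det := isUnit_iff_ne_zero.2 hC
  have hsymG : (R * cyc X v)ᵀ = R * cyc X v := by
    ext i j
    rw [transpose_apply, hG, hG, add_comm]
  have hG' : ∀ i j : Fin n, (R * (X * cyc X v)) i j = φ ((X ^ ((i : ℕ) + (j : ℕ) + 1)) *ᵥ v) := by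
    intro i j
    rw [← mul_assoc, mul_cyc, ← mulVec_mulVec, hRv, mulVec_mulVec, mulVec_mulVec, ← pow_succ, ← pow_add,
      show (i : ℕ) + 1 + (j : ℕ) = (i : ℕ) + (j : ℕ) + 1 by omega]
  have hsymG' : (R * (X * cyc X v))ᵀ = R * (X * cyc X v) := by
    ext i j
    rw [transpose_apply, hG', hG', add_comm (j : ℕ)]
  refine ⟨v, Rᵀ * (cyc X v)⁻¹, hCu, ?_, ?_⟩
  · rw [det_mul, det_transpose]
    refine (isUnit_iff_ne_zero.2 hRdet).mul ?_
    rw [det_nonsing_inv]
    exact (isUnit_iff_ne_zero.2 (by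
      rw [Ring.inverse_eq_inv']
      exact inv_ne_zero hC))
  · set C := cyc X v with hCdef
    have hu : IsUnit C := (Matrix.isUnit_iff_isUnit_det _).2 hCu
    have hu' : IsUnit Cᵀ := by
      rw [Matrix.isUnit_iff_isUnit_det, det_transpose]
      exact hCu
    have e1 : Rᵀ * C⁻¹ * C = Rᵀ := by rw [mul_assoc, nonsing_inv_mul C hCu, mul_one]
    have e2 : Cᵀ * (Rᵀ * C⁻¹) = R := by
      apply hu.mul_right_cancel
      rw [mul_assoc, e1, ← transpose_mul, hsymG]
    apply hu.mul_right_cancel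
    apply hu'.mul_left_cancel
    calc Cᵀ * (Xᵀ * (Rᵀ * C⁻¹) * C) = Cᵀ * (Xᵀ * Rᵀ) := by rw [mul_assoc Xᵀ, e1]
      _ = (R * (X * C))ᵀ := by rw [transpose_mul, transpose_mul, mul_assoc]
      _ = R * (X * C) := hsymG'
      _ = Cᵀ * (Rᵀ * C⁻¹) * (X * C) := by rw [e2]
      _ = Cᵀ * (Rᵀ * C⁻¹ * X * C) := by simp only [mul_assoc]

theorem Sy.of_cls {X : Matrix (Fin n) (Fin n) F} (h : Cls X) : Sy X := by
  intro δ hδ
  obtain ⟨v, H, hv, hH, hXH⟩ := exists_cyc h.1
  have hH0 : H.det ≠ 0 := hH.ne_zero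
  obtain ⟨e, he, hcomm⟩ := h.2 (δ * H.det⁻¹) (mul_ne_zero hδ (inv_ne_zero hH0))
  set C : Matrix (Fin n) (Fin n) F := LinearMap.toMatrix' (e : (Fin n → F) →ₗ[F] (Fin n → F)) with hC
  have hCdet : C.det = δ * H.det⁻¹ := by rw [hC, LinearMap.det_toMatrix']; exact he
  have hCX : C * X = X * C := by
    apply Matrix.toLin'.injective
    refine LinearMap.ext fun x => ?_
    rw [toLin'_mul, toLin'_mul, LinearMap.comp_apply, LinearMap.comp_apply, hC, toLin'_toMatrix']
    exact hcomm x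
  have hK : Xᵀ * (H * C) = H * C * X := by
    rw [← mul_assoc, hXH, mul_assoc, mul_assoc, hCX]
  refine ⟨H * C, symm_of_cyc hv hK, hK, ?_⟩
  rw [det_mul, hCdet, mul_comm, mul_assoc, inv_mul_cancel₀ hH0, mul_one]

theorem Sy.of_nice {X : Matrix (Fin n) (Fin n) F} (h : NiceM X) : Sy X := Sy.of_cls h.cls

theorem Sy.of_irreducible [Finite F] {X : Matrix (Fin n) (Fin n) F} (h : Irreducible X.charpoly) : Sy X :=
  fun δ _ => exists_symm X h δ

/-- conjugates -/
theorem Sy.conj_mat {X g g' : Matrix (Fin n) (Fin n) F} (h : Sy X) (hg : g * g' = 1) : Sy (g * X * g') := by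
  have hg' : g' * g = 1 := mul_eq_one_comm.1 hg
  have hd : g'.det * g.det = 1 := by rw [← det_mul, hg', det_one]
  have hne : g.det ≠ 0 := right_ne_zero_of_mul_eq_one hd
  intro δ hδ
  obtain ⟨H, h1, h2, h3⟩ := h (δ * (g.det * g.det)) (mul_ne_zero hδ (mul_ne_zero hne hne))
  have ht : gᵀ * g'ᵀ = 1 := by rw [← transpose_mul, hg', transpose_one]
  refine ⟨g'ᵀ * H * g', ?_, ?_, ?_⟩
  · rw [transpose_mul, transpose_mul, h1, transpose_transpose, mul_assoc]
  · rw [transpose_mul, transpose_mul]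
    calc g'ᵀ * (Xᵀ * gᵀ) * (g'ᵀ * H * g') = g'ᵀ * (Xᵀ * ((gᵀ * g'ᵀ) * H)) * g' := by simp only [mul_assoc]
      _ = g'ᵀ * (H * X) * g' := by rw [ht, one_mul, h2]
      _ = g'ᵀ * H * (g' * g) * X * g' := by rw [hg', mul_one, mul_assoc (g'ᵀ) H X]
      _ = g'ᵀ * H * g' * (g * X * g') := by simp only [mul_assoc]
  · rw [det_mul, det_mul, det_transpose, h3]
    calc g'.det * (δ * (g.det * g.det)) * g'.det = δ * (g'.det * g.det) * (g'.det * g.det) := by ring
      _ = δ := by rw [hd, mul_one, mul_one]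

theorem Sy.conj {X : Matrix.SpecialLinearGroup (Fin n) F} (h : Sy X.1) (g : Matrix.SpecialLinearGroup (Fin n) F) :
    Sy (g * X * g⁻¹).1 := by
  have h1 := h.conj_mat (g := g.1) (g' := (g⁻¹).1) (by
    have := congrArg Subtype.val (mul_inv_cancel g)
    exact this)
  exact h1

theorem Sy.inv {X : Matrix.SpecialLinearGroup (Fin n) F} (h : Sy X.1) : Sy (X⁻¹).1 := by
  intro δ hδ
  obtain ⟨H, h1, h2, h3⟩ := h δ hδ
  refine ⟨H, h1, ?_, h3⟩
  have e1 : X.1 * (X⁻¹).1 = 1 := congrArg Subtype.val (mul_inv_cancel X)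
  have e2 : (X⁻¹).1 * X.1 = 1 := congrArg Subtype.val (inv_mul_cancel X)
  have e3 : ((X⁻¹).1)ᵀ * (X.1)ᵀ = 1 := by rw [← transpose_mul, e1, transpose_one]
  calc ((X⁻¹).1)ᵀ * H = ((X⁻¹).1)ᵀ * (H * (X.1 * (X⁻¹).1)) := by rw [e1, mul_one]
    _ = ((X⁻¹).1)ᵀ * (H * X.1) * (X⁻¹).1 := by simp only [mul_assoc]
    _ = (((X⁻¹).1)ᵀ * (X.1)ᵀ) * H * (X⁻¹).1 := by rw [← h2]; simp only [mul_assoc]
    _ = H * (X⁻¹).1 := by rw [e3, one_mul]

end Cfsg.Agent.H335.Sr
end

-- part: H85/Ore/EEight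
section
/-!
# `E_8(q)`, `q ≥ 3` (S2443, S4171)
-/

set_option autoImplicit false
set_option linter.unusedSectionVars false

namespace Cfsg.Agent.H85.Ore

open CoxeterSystem Cfsg.Agent.ChevalleyStructure.CoxeterGeom Cfsg.Agent.Tits.Roots Cfsg.Agent.Tits.Core
  Cfsg.Agent.Nodes.Reps Cfsg.Agent.Nodes.BNOf Cfsg.Agent.Nodes.RGDLib Cfsg.Agent.Nodes.Bruhat
  Cfsg.Agent.Nodes.OppDec Cfsg.Agent.Nodes.LeviDec Cfsg.Agent.Nodes.KindChev Cfsg.Agent.Nodes.ChevCls
  Cfsg.Agent.OddHalf.NI.ModelChev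
  Cfsg.Agent.H162.GaussDec Cfsg.Agent.H162.GaussLevi Cfsg.Agent.H162.GaussSL
  Cfsg.Agent.H162.GaussMain Cfsg.Agent.H162.GaussPQ Cfsg.Agent.H162.GaussExc
open Cfsg.Lie Cfsg.Agent.ChevalleyStructure Cfsg.Agent.ChevalleyStructure.Elts
  Cfsg.Agent.ChevalleyStructure.RootVec Cfsg.Agent.ChevalleyStructure.NPerm
  Cfsg.Agent.ChevalleyStructure.CoxeterGeomTypes Cfsg.Agent.Nodes.RGDChev Cfsg.Agent.KFacts.RgdChevCoord
open Cfsg.Agent.H928.Ore.Frame (NF LP)
open Cfsg.Agent.H777.Ore (IsC AllC I4 Inv4)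
open Cfsg.Agent.H224.Ore.Zeta (Zet exists_zet)
open Polynomial (X C)

universe u

/-- the conjugates have the same characteristic polynomial -/
theorem charpoly_conj {K : Type*} [Field K] {N : ℕ} (g c : Matrix.SpecialLinearGroup (Fin N) K) :
    (g * c * g⁻¹ : Matrix.SpecialLinearGroup (Fin N) K).1.charpoly = c.1.charpoly := by
  have h1 : (g * c * g⁻¹ : Matrix.SpecialLinearGroup (Fin N) K).1 = (g * c).1 * (g⁻¹).1 :=
    Matrix.SpecialLinearGroup.coe_mul _ _
  have h2 : (g⁻¹).1 * (g * c).1 = c.1 := by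
    have h3 := Matrix.SpecialLinearGroup.coe_mul g⁻¹ (g * c)
    rw [inv_mul_cancel_left] at h3
    exact h3.symm
  rw [h1, Matrix.charpoly_mul_comm, h2]

section

variable {D : ChevalleyDatum} {l : ℕ} {M : CoxeterMatrix (Fin l)} (hp : IsType D l M) {K : Type u} [Field K] [Finite K]
  (hq : 3 ≤ Nat.card K) {J : List (Fin l)} {n : ℕ}
  {φ : Matrix.SpecialLinearGroup (Fin (n + 2)) K →* ↥(D.group K)}

include hq in
/-- one class from the eigenvalues of `Zet` and the statement on fixed points -/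
theorem exists_oneClass (hn : 1 ≤ n)
    (hnf : ∀ (K' : Type) (_ : Field K') (_ : Finite K') (i : K →+* K') (ν : K) (p : Polynomial K)
      (lam : Fin (n + 2) → K') (_ : Zet i (n + 1) ν p lam) (X : Matrix.SpecialLinearGroup (Fin (n + 2)) K),
      (∃ g : GL (Fin (n + 2)) K', X.1.map i = g.val * Matrix.diagonal lam * g⁻¹.val) →
      NF (VJ M.toCoxeterSystem hp.isCartan (XX D l K) {k | k ∈ J}) (φ X) ∧
        NF (VNJ M.toCoxeterSystem hp.isCartan (XX D l K) {k | k ∈ J}) (φ X)) :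
    ∃ (c₀ : Matrix.SpecialLinearGroup (Fin (n + 2)) K) (ν : K) (p : Polynomial K), Irreducible p ∧ p.eval ν ≠ 0 ∧
      c₀.1.charpoly = (X - C ν) * p ∧ Cfsg.Agent.H150.MF.NiceM c₀.1 ∧ OneClass hp K J φ c₀ := by
  obtain ⟨K', iF, iK, i, ν, p, lam, Z⟩ := exists_zet K hq (m := n + 1) (by omega)
  obtain ⟨c₀, h1, h2, h3⟩ := Cfsg.Agent.H150.MF.mf_poly hq (n := n + 2) (by omega) Z.monic Z.deg Z.c0 Z.nu
  have key : ∀ g : Matrix.SpecialLinearGroup (Fin (n + 2)) K,
      NF (VJ M.toCoxeterSystem hp.isCartan (XX D l K) {k | k ∈ J}) (φ (g * c₀ * g⁻¹)) ∧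
        NF (VNJ M.toCoxeterSystem hp.isCartan (XX D l K) {k | k ∈ J}) (φ (g * c₀ * g⁻¹)) := by
    intro g
    refine hnf K' iF iK i ν p lam Z _ ?_
    exact Cfsg.Agent.H934.MF.diag_map i _ Z.inj (by rw [charpoly_conj, h1]; exact Z.split)
  exact ⟨c₀, ν, p, Z.irr, Z.nu, h1, h2, h3, fun g => (key g).1, fun g => (key g).2⟩

include hp in
omit hq in
/-- strong reality in the block, `w_0 = -1` -/
theorem exists_inv {ω : List (Fin l)}
    (hω : ∀ j : Fin l, Cfsg.Agent.H162.GaussExc.fr D ω (D.simple j) = D.neg (D.simple j))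
    {r : Fin (n + 2) → Fin (n + 2) → ℕ} (hr : ∀ a b, a ≠ b → r a b < D.nroots)
    (hneg : ∀ a b, a ≠ b → r b a = D.neg (r a b)) {s : Fin (n + 2) → Fin (n + 2) → K}
    (hs : ∀ a b, a ≠ b → s a b * s a b = 1)
    (hφ : ∀ a b (hab : a ≠ b) c, φ (Matrix.SpecialLinearGroup.transvection hab c) =
      xc hp (vec D l (r a b)) (s a b * c)) {c₀ : Matrix.SpecialLinearGroup (Fin (n + 2)) K}
    (hc : Cfsg.Agent.H335.Sr.Sy c₀.1) : ∃ t : ↥(D.group K), t * t = 1 ∧ t * φ c₀ * t⁻¹ = (φ c₀)⁻¹ := by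
  obtain ⟨p, hpc⟩ := CharP.exists K
  have := Fintype.ofFinite K
  have : Fact p.Prime := ⟨(CharP.char_is_prime_or_zero K p).resolve_right (CharP.char_ne_zero_of_finite K p)⟩
  have := finite_W hp M.toCoxeterSystem
  have hw := rep_neg hp hω
  obtain ⟨ε, z, Z⟩ := Cfsg.Agent.H335.Sr.exists_ZD_neg hp M.toCoxeterSystem (rgd (K := K) hp M.toCoxeterSystem p).nsys hw
  obtain ⟨S, h1, h2⟩ := Z.inv_block hr hneg (fun a b _ => hw _) hs hφ (fun i => rfl) (s₀ := 1) (one_mem _)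
    (fun i => rfl) (fun A => by rw [one_mul, mul_one]) hc
  rw [one_mul] at h2
  exact ⟨_, h1, h2⟩

end

section

variable {D : ChevalleyDatum} {l : ℕ} {M : CoxeterMatrix (Fin l)} (hp : IsType D l M) {K : Type u} [Field K] [Finite K]
  (hq : 3 ≤ Nat.card K) {J : List (Fin l)} {n : ℕ} {r : Fin (n + 2) → Fin (n + 2) → ℕ} {j : Fin (n + 1) → Fin l}

include hq in
/-- **The class of the block.** -/
theorem exists_class (hn : 1 ≤ n) (hW : ChkW D l J n j)
    (hphi' : ∀ (F : Type) [Field F], ∃ φ : Matrix.SpecialLinearGroup (Fin (n + 2)) F →* ↥(D.group F),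
      ∀ a b (hab : a ≠ b) c, φ (Matrix.SpecialLinearGroup.transvection hab c) =
        xc hp (vec D l (r a b)) (((-1 : ℤ) : F) * c))
    (hr : ∀ a b, a ≠ b → r a b < D.nroots) (hrJ : ∀ a b, a ≠ b → ∀ k, k ∉ J → vec D l (r a b) k = 0)
    (hneg : ∀ a b, a ≠ b → r b a = D.neg (r a b)) (hj : ∀ a : Fin (n + 1), r a.castSucc a.succ = D.simple (j a))
    {φ : Matrix.SpecialLinearGroup (Fin (n + 2)) K →* ↥(D.group K)}
    (hφ : ∀ a b (hab : a ≠ b) c, φ (Matrix.SpecialLinearGroup.transvection hab c) =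
      xc hp (vec D l (r a b)) (((-1 : ℤ) : K) * c)) :
    ∃ (c₀ : Matrix.SpecialLinearGroup (Fin (n + 2)) K) (ν : K) (p : Polynomial K), Irreducible p ∧ p.eval ν ≠ 0 ∧
      c₀.1.charpoly = (X - C ν) * p ∧ Cfsg.Agent.H150.MF.NiceM c₀.1 ∧ OneClass hp K J φ c₀ := by
  refine exists_oneClass hp hq hn fun K' iF iK i ν p lam Z x hx => ?_
  obtain ⟨g, hg⟩ := hx
  obtain ⟨φ', hφ'⟩ := hphi' K'
  obtain ⟨ch, hch⟩ := CharP.exists K'
  have := Fintype.ofFinite K'
  have : Fact ch.Prime := ⟨(CharP.char_is_prime_or_zero K' ch).resolve_right (CharP.char_ne_zero_of_finite K' ch)⟩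
  have B : Cfsg.Agent.H482.Ore.Fix.Bk hp i {k | k ∈ J} n r j φ φ' (fun _ _ => ((-1 : ℤ) : K)) :=
    { simp := ⟨hj, fun a => by rw [← hj a]; exact hneg _ _ (cs_ne a)⟩
      rlt := hr
      rJ := hrJ
      hφ := hφ
      hφ' := fun a b hab c => by rw [hφ' a b hab c, map_intCast]
      ss := fun a => by simp }
  exact Cfsg.Agent.H482.Ore.Fix.nf_block' hp ch B (g := g) hg fun q hq hk => ne_one' Z hW hq hk

end

/-! ### `E_8` -/

section

variable (K : Type u) [Field K] [Finite K] (hq : 3 ≤ Nat.card K)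

include hq in
theorem exists_class8 {φ : Matrix.SpecialLinearGroup (Fin 8) K →* ↥(chevE8.group K)}
    (hφ : ∀ a b (hab : a ≠ b) c, φ (Matrix.SpecialLinearGroup.transvection hab c) =
      xc Cfsg.Agent.Nodes.KindE.isType8 (vec chevE8 8 (r8 a b)) (((-1 : ℤ) : K) * c)) :
    ∃ (c₀ : Matrix.SpecialLinearGroup (Fin 8) K) (ν : K) (p : Polynomial K), Irreducible p ∧ p.eval ν ≠ 0 ∧
      c₀.1.charpoly = (X - C ν) * p ∧ Cfsg.Agent.H150.MF.NiceM c₀.1 ∧ OneClass Cfsg.Agent.Nodes.KindE.isType8 K J8 φ c₀ :=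
  exists_class (n := 6) (j := j8) Cfsg.Agent.Nodes.KindE.isType8 hq (by norm_num) chkW8
    (fun F _ => exists_phi8 F) ch8a.1 ch8a.2 rt8.2.2.2 r8_simple hφ

include hq in
/-- **Ore for `E_8(q)`, `q ≥ 3`.** -/
theorem allC_E8 : AllC ↥(chevE8.group K) := by
  obtain ⟨φ, hφ⟩ := exists_phi8 K
  obtain ⟨c₀, ν, p, -, -, -, -, hc⟩ := exists_class8 K hq hφ
  exact allC_of_blk Cfsg.Agent.Nodes.KindE.isType8 (by norm_num) (Cfsg.Agent.S1054.result chevE8 (by simp))
    Cfsg.Agent.Nodes.ChevChart.irr8 tab8 (s := fun _ _ => ((-1 : ℤ) : K)) (fun _ _ => by simp) hφ hc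

include hq in
/-- **Four involutions for `E_8(q)`, `q ≥ 3`.** -/
theorem inv4_E8 : Inv4 ↥(chevE8.group K) := by
  obtain ⟨φ, hφ⟩ := exists_phi8 K
  obtain ⟨c₀, ν, p, -, -, -, h3, hc⟩ := exists_class8 K hq hφ
  exact inv4_of_blk Cfsg.Agent.Nodes.KindE.isType8 (by norm_num) (Cfsg.Agent.S1054.result chevE8 (by simp))
    Cfsg.Agent.Nodes.ChevChart.irr8 tab8 (s := fun _ _ => ((-1 : ℤ) : K)) (fun _ _ => by simp) hφ hc
    (exists_inv Cfsg.Agent.Nodes.KindE.isType8 chw8 ch8a.1 rt8.2.2.2 (s := fun _ _ => ((-1 : ℤ) : K))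
      (fun _ _ _ => by simp) hφ (Cfsg.Agent.H335.Sr.Sy.of_nice h3))

end

/-! ### `E_7` -/

section

variable (K : Type u) [Field K] [Finite K] (hq : 3 ≤ Nat.card K)

include hq in
theorem exists_class7 {φ : Matrix.SpecialLinearGroup (Fin 7) K →* ↥(chevE7.group K)}
    (hφ : ∀ a b (hab : a ≠ b) c, φ (Matrix.SpecialLinearGroup.transvection hab c) =
      xc Cfsg.Agent.Nodes.KindE.isType7 (vec chevE7 7 (r7 a b)) (((-1 : ℤ) : K) * c)) :
    ∃ (c₀ : Matrix.SpecialLinearGroup (Fin 7) K) (ν : K) (p : Polynomial K), Irreducible p ∧ p.eval ν ≠ 0 ∧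
      c₀.1.charpoly = (X - C ν) * p ∧ Cfsg.Agent.H150.MF.NiceM c₀.1 ∧ OneClass Cfsg.Agent.Nodes.KindE.isType7 K J7 φ c₀ :=
  exists_class (n := 5) (j := j7) Cfsg.Agent.Nodes.KindE.isType7 hq (by norm_num) chkW7
    (fun F _ => exists_phi7 F) ch7a.1 ch7a.2 rt7.2.2.2 r7_simple hφ

include hq in
/-- **Ore for `E_7(q)`, `q ≥ 3`.** -/
theorem allC_E7 : AllC ↥(chevE7.group K) := by
  obtain ⟨φ, hφ⟩ := exists_phi7 K
  obtain ⟨c₀, ν, p, -, -, -, -, hc⟩ := exists_class7 K hq hφ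
  exact allC_of_blk Cfsg.Agent.Nodes.KindE.isType7 (by norm_num) (Cfsg.Agent.S1054.result chevE7 (by simp))
    Cfsg.Agent.Nodes.ChevChart.irr7 tab7 (s := fun _ _ => ((-1 : ℤ) : K)) (fun _ _ => by simp) hφ hc

include hq in
/-- **Four involutions for `E_7(q)`, `q ≥ 3`.** -/
theorem inv4_E7 : Inv4 ↥(chevE7.group K) := by
  obtain ⟨φ, hφ⟩ := exists_phi7 K
  obtain ⟨c₀, ν, p, -, -, -, h3, hc⟩ := exists_class7 K hq hφ
  exact inv4_of_blk Cfsg.Agent.Nodes.KindE.isType7 (by norm_num) (Cfsg.Agent.S1054.result chevE7 (by simp))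
    Cfsg.Agent.Nodes.ChevChart.irr7 tab7 (s := fun _ _ => ((-1 : ℤ) : K)) (fun _ _ => by simp) hφ hc
    (exists_inv Cfsg.Agent.Nodes.KindE.isType7 chw7 ch7a.1 rt7.2.2.2 (s := fun _ _ => ((-1 : ℤ) : K))
      (fun _ _ _ => by simp) hφ (Cfsg.Agent.H335.Sr.Sy.of_nice h3))

end

end Cfsg.Agent.H85.Ore
end
end

-- part: H194/Ore/RowThree
section
prune_inst 0x250020040040000000180000102000040c000092002000010840004000408b40208008412420100002180e0120010000010000500220000000000000000000000008100490080000000000008004000000000000000000000000000000000004000000000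
set_option linter.all false
open scoped Cfsg.Agent.FastGrp

-- part: H194/Ore/Irr
section
/-!
# Fixed points of `s₀ φ(x)`, `x ∈ SL₃(K)` with irreducible characteristic polynomial (S2443, S4171)

* `bc_th` : base change of the elements of the torus;
* `bc_phi` : base change of a block of type `A₂`;
* `nf_irr` : if the weights of the block outside `J` are minuscule, or trivial with nontrivial value on `s₀`, then
  `s₀ φ(x)` has no fixed points on the unipotent radicals.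
-/

set_option autoImplicit false
set_option linter.unusedSectionVars false

namespace Cfsg.Agent.H194.Ore

open CoxeterSystem Cfsg.Agent.ChevalleyStructure.CoxeterGeom Cfsg.Agent.Tits.Roots Cfsg.Agent.Tits.Core
  Cfsg.Agent.Nodes.Reps Cfsg.Agent.Nodes.BNOf Cfsg.Agent.Nodes.RGDLib Cfsg.Agent.Nodes.Bruhat
  Cfsg.Agent.Nodes.OppDec Cfsg.Agent.Nodes.LeviDec Cfsg.Agent.Nodes.KindChev Cfsg.Agent.Nodes.ChevCls
  Cfsg.Agent.OddHalf.NI.ModelChev Cfsg.Agent.Nodes.StabComb
  Cfsg.Agent.H162.GaussDec Cfsg.Agent.H162.GaussLevi Cfsg.Agent.H162.GaussSL Cfsg.Agent.H162.GaussReg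
  Cfsg.Agent.H928.Ore.Frame Cfsg.Agent.H928.Ore.Fix Cfsg.Agent.H928.Ore.Block
open Cfsg.Lie Cfsg.Agent.ChevalleyStructure Cfsg.Agent.ChevalleyStructure.Elts
  Cfsg.Agent.ChevalleyStructure.RootVec Cfsg.Agent.ChevalleyStructure.NPerm
  Cfsg.Agent.ChevalleyStructure.CoxeterGeomTypes Cfsg.Agent.Nodes.RGDChev Cfsg.Agent.KFacts.RgdChevCoord
open Cfsg.Agent.FixBN.FieldRGD (uu vv dd ww)
open Cfsg.Agent.TitsThree.KExcRT

universe u v

/-! ### Base change -/

section

variable {D : ChevalleyDatum} {l : ℕ} {M : CoxeterMatrix (Fin l)} (hp : IsType D l M) {K : Type u} {K' : Type v}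
  [Field K] [Field K'] (ι : K →+* K')

theorem dd_eq {F : Type*} [Field F] (c : F) (hc : c ≠ 0) :
    dd c hc = (uu c * vv (-c⁻¹) * uu c) * (uu (-1) * vv 1 * uu (-1)) := by
  apply Subtype.ext
  change !![c, 0; 0, c⁻¹] = (!![1, c; 0, 1] * !![1, 0; -c⁻¹, 1] * !![1, c; 0, 1]) *
    (!![1, -1; 0, 1] * !![1, 0; 1, 1] * !![1, -1; 0, 1])
  simp only [Matrix.mul_fin_two]
  ext i j
  (revert i j; simp [hc, _root_.Fin.forall_fin_succ])

theorem bc_sr (i : Fin l) (a : K) : bc D ι (xc hp (sr i) a) = xc hp (sr i) (ι a) := by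
  rw [← vec_simple hp i]
  exact bc_xc hp ι (simple_lt hp.inList (lt_rank hp i)) a

theorem bc_nsr (i : Fin l) (a : K) : bc D ι (xc hp (-sr i) a) = xc hp (-sr i) (ι a) := by
  have h0 := simple_lt hp.inList (lt_rank hp i)
  rw [← vec_simple hp i, ← vec_neg hp h0]
  exact bc_xc hp ι (neg_lt hp.inList h0) a

theorem bc_hc (i : Fin l) {c : K} (h0 : c ≠ 0) : bc D ι (hc hp i c) = hc hp i (ι c) := by
  have h0' : ι c ≠ 0 := (map_ne_zero ι).2 h0
  rw [← sl_dd hp i c h0, ← sl_dd hp i (ι c) h0', dd_eq, dd_eq]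
  simp only [map_mul, sl_uu, sl_vv, bc_sr, bc_nsr, map_neg, map_inv₀, map_one]

theorem bc_th (t : Fin l → Kˣ) : bc D ι (th hp t) = th hp fun i => Units.map ι.toMonoidHom (t i) := by
  have h1 : (bc D ι).comp (th hp) = (th hp (K := K')).comp
      (MonoidHom.pi fun i => (Units.map ι.toMonoidHom).comp (Pi.evalMonoidHom (fun _ : Fin l => Kˣ) i)) := by
    refine MonoidHom.pi_ext fun i x => ?_
    change bc D ι (th hp (Pi.mulSingle i x)) = th hp _
    have e : (MonoidHom.pi fun i => (Units.map ι.toMonoidHom).comp (Pi.evalMonoidHom (fun _ : Fin l => Kˣ) i))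
        (Pi.mulSingle i x) = Pi.mulSingle i (Units.map ι.toMonoidHom x) := by
      funext j
      change Units.map ι.toMonoidHom ((Pi.mulSingle i x : Fin l → Kˣ) j) = _
      by_cases hj : j = i
      · subst hj
        rw [Pi.mulSingle_eq_same, Pi.mulSingle_eq_same]
      · rw [Pi.mulSingle_eq_of_ne hj, Pi.mulSingle_eq_of_ne hj, map_one]
    rw [e, th_mulSingle, th_mulSingle, sl_dd, sl_dd, bc_hc hp ι i x.ne_zero]
    rfl
  exact DFunLike.congr_fun h1 t

variable {r : Fin 3 → Fin 3 → ℕ} {ε : ℤ} (hr : ∀ a b, a ≠ b → r a b < D.nroots)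
  {φ : Matrix.SpecialLinearGroup (Fin 3) K →* ↥(D.group K)}
  (hφ : ∀ a b (hab : a ≠ b) c, φ (Matrix.SpecialLinearGroup.transvection hab c) = xc hp (vec D l (r a b)) ((ε : K) * c))
  {φ' : Matrix.SpecialLinearGroup (Fin 3) K' →* ↥(D.group K')}
  (hφ' : ∀ a b (hab : a ≠ b) c, φ' (Matrix.SpecialLinearGroup.transvection hab c) = xc hp (vec D l (r a b)) ((ε : K') * c))

include hr hφ hφ'

theorem bc_phi (x : Matrix.SpecialLinearGroup (Fin 3) K) :
    bc D ι (φ x) = φ' (Matrix.SpecialLinearGroup.map ι x) := by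
  have h1 : (bc D ι).comp φ = φ'.comp (Matrix.SpecialLinearGroup.map ι) := by
    refine hom_ext fun a b hab c => ?_
    change bc D ι (φ _) = φ' (Matrix.SpecialLinearGroup.map ι _)
    have e : Matrix.SpecialLinearGroup.map ι (Matrix.SpecialLinearGroup.transvection hab c) =
        Matrix.SpecialLinearGroup.transvection hab (ι c) := by
      apply Subtype.ext
      ext i j
      change ι ((1 : Matrix (Fin 3) (Fin 3) K) i j + Matrix.single a b c i j) =
        (1 : Matrix (Fin 3) (Fin 3) K') i j + Matrix.single a b (ι c) i j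
      rw [map_add, Matrix.one_apply, Matrix.one_apply, Matrix.single_apply, Matrix.single_apply]
      split_ifs <;> simp
    rw [e, hφ, hφ', bc_xc hp ι (hr a b hab), map_mul, map_intCast]
  exact DFunLike.congr_fun h1 x

end

/-! ### No fixed points -/

section

variable {D : ChevalleyDatum} {l : ℕ} {M : CoxeterMatrix (Fin l)} (hp : IsType D l M) {K : Type u} [Field K] [Finite K]
  {r : Fin 3 → Fin 3 → ℕ} {ε : ℤ} (hε : ε * ε = 1)
  (ha : RTa D r) (hb : RTb D r fun _ _ => ε) (hc : RTc D r) (hneg : ∀ i j, i ≠ j → r j i = D.neg (r i j))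
  {φ : Matrix.SpecialLinearGroup (Fin 3) K →* ↥(D.group K)}
  (hφ : ∀ a b (hab : a ≠ b) c, φ (Matrix.SpecialLinearGroup.transvection hab c) = xc hp (vec D l (r a b)) ((ε : K) * c))

/-- the weights of the block outside `J` -/
def Minus (D : ChevalleyDatum) (i j s : ℕ) : Prop :=
  (D.cartan i s = 1 ∧ D.cartan j s = 0) ∨ (D.cartan i s = -1 ∧ D.cartan j s = 0) ∨
  (D.cartan i s = 0 ∧ D.cartan j s = 1) ∨ (D.cartan i s = 0 ∧ D.cartan j s = -1) ∨
  (D.cartan i s = 1 ∧ D.cartan j s = -1) ∨ (D.cartan i s = -1 ∧ D.cartan j s = 1)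

instance (D : ChevalleyDatum) (i j s : ℕ) : Decidable (Minus D i j s) := by
  unfold Minus; infer_instance

/-- a minuscule weight has no value in `K` -/
theorem minus_ne {K' : Type*} [Field K'] (ι : K →+* K') {i j s : ℕ} (h : Minus D i j s) {a b : K'ˣ}
    (h0 : ∀ c : K, ι c ≠ (a : K')) (h1 : ∀ c : K, ι c ≠ ((a⁻¹ * b : K'ˣ) : K'))
    (h2 : ∀ c : K, ι c ≠ ((b⁻¹ : K'ˣ) : K')) (c : K) (hc : c ≠ 0) :
    ι c * ((a : K') ^ D.cartan i s * (b : K') ^ D.cartan j s) ≠ 1 := by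
  have ha := a.ne_zero
  have hb := b.ne_zero
  have hic : ι c ≠ 0 := (map_ne_zero ι).2 hc
  intro e
  rw [Units.val_mul, Units.val_inv_eq_inv_val] at h1
  rw [Units.val_inv_eq_inv_val] at h2
  rcases h with h | h | h | h | h | h <;> rw [h.1, h.2] at e
  · refine h0 c⁻¹ ?_
    rw [zpow_one, zpow_zero, mul_one] at e
    rw [map_inv₀]
    exact inv_eq_of_mul_eq_one_right e
  · refine h0 c ?_
    rw [zpow_neg_one, zpow_zero, mul_one] at e
    rw [mul_inv_eq_one₀ ha] at e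
    exact e
  · refine h2 c ?_
    rw [zpow_one, zpow_zero, one_mul] at e
    exact eq_inv_of_mul_eq_one_left e
  · refine h2 c⁻¹ ?_
    rw [zpow_neg_one, zpow_zero, one_mul, mul_inv_eq_one₀ hb] at e
    rw [map_inv₀, e]
  · refine h1 c ?_
    rw [zpow_one, zpow_neg_one] at e
    field_simp at e ⊢
    linear_combination e
  · refine h1 c⁻¹ ?_
    rw [zpow_one, zpow_neg_one] at e
    rw [map_inv₀]
    field_simp at e ⊢
    linear_combination -e

include hε ha hb hc hneg hφ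

/-- **No fixed points.** -/
theorem nf_irr {i j : Fin l} (hi : r 0 1 = D.simple i) (hj : r 1 2 = D.simple j) {J : Set (Fin l)}
    (hJ : ∀ a b, a ≠ b → ∀ k, k ∉ J → vec D l (r a b) k = 0) {σ : Fin l → Kˣ}
    (hσ : ∀ a b, a ≠ b → ∏ k : Fin l, ((σ k : Kˣ) : K) ^ D.cartan k (r a b) = 1)
    (hne : ∀ s < D.nroots, (∃ k, k ∉ J ∧ vec D l s k ≠ 0) → Minus D i j s ∨
      (D.cartan i s = 0 ∧ D.cartan j s = 0 ∧ ∏ k : Fin l, ((σ k : Kˣ) : K) ^ D.cartan k s ≠ 1))
    {x : Matrix.SpecialLinearGroup (Fin 3) K} (hx : Irreducible (x : Matrix (Fin 3) (Fin 3) K).charpoly) :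
    NF (VJ M.toCoxeterSystem hp.isCartan (XX D l K) J) (th hp σ * φ x) ∧
      NF (VNJ M.toCoxeterSystem hp.isCartan (XX D l K) J) (th hp σ * φ x) := by
  obtain ⟨K', _, _, ι, a, b, P, e, h0, h1, h2⟩ := exists_dg3 hx
  obtain ⟨φ', hφ'⟩ := Cfsg.Agent.H162.GaussExcMain.exists_hom_D hp (K := K') hε ha hb hc hneg
  have hmap : ∀ s, ∏ k : Fin l, ((Units.map ι.toMonoidHom (σ k) : K'ˣ) : K') ^ D.cartan k s =
      ι (∏ k : Fin l, ((σ k : Kˣ) : K) ^ D.cartan k s) := by
    intro s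
    rw [map_prod]
    refine Finset.prod_congr rfl fun k _ => ?_
    rw [map_zpow₀]
    rfl
  have hne0 : ∀ s, ∏ k : Fin l, ((σ k : Kˣ) : K) ^ D.cartan k s ≠ 0 := fun s =>
    Finset.prod_ne_zero_iff.2 fun k _ => zpow_ne_zero _ (σ k).ne_zero
  have key := nf_block hp hε ha hneg hφ' hi hj hJ (σ := fun k => Units.map ι.toMonoidHom (σ k)) (a := a) (b := b)
    (fun a b hab => by rw [hmap, hσ a b hab, map_one]) (fun s hs hk => by
      rw [hmap]
      rcases hne s hs hk with h3 | ⟨h3, h4, h5⟩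
      · exact minus_ne ι h3 h0 h1 h2 _ (hne0 s)
      · rw [h3, h4, zpow_zero, zpow_zero, mul_one, mul_one]
        intro h6
        exact h5 (ι.injective (by rw [h6, map_one]))) e
  have e2 : bc D ι (th hp σ * φ x) =
      th hp (fun k => Units.map ι.toMonoidHom (σ k)) * φ' (Matrix.SpecialLinearGroup.map ι x) := by
    rw [map_mul, bc_th, bc_phi hp ι ha hφ hφ']
  rw [← e2] at key
  exact ⟨NF.of_hom (bc D ι) (bc_injective D ι) (VJ_le_comap hp ι J) key.1,
    NF.of_hom (bc D ι) (bc_injective D ι) (VNJ_le_comap hp ι J) key.2⟩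

end

end Cfsg.Agent.H194.Ore
end

-- part: H194/Ore/RowThree
section
/-!
# Rows with a block of type `A₂` and a semisimple element commuting with it (S2443, S4171)

`D.group K`, `φ : SL₃(K) →* D.group K` the block of the nodes `J = {i, j}`, `s₀ = ∏ h_k(t ^ m_k)` commuting with it.

* `Tab` : the table: the weights of the block outside `J` are minuscule, or trivial with value `t^{±1}`, `t^{±2}` on `s₀`;
  a word for `-γ` with `s₀` invariant under `γ`; a word `ω₁` inverting `s₀` and fixing the block;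
* `M3 K` : every `L U` in `SL₃(K)` is a product of two elements with irreducible characteristic polynomials, equal or
  inverse to each other;
* `row` : `AllC` and `Inv4` for `D.group K`, if `t² ≠ 1` for a `t`, i.e. for at least four elements.
-/

set_option autoImplicit false
set_option linter.unusedSectionVars false

namespace Cfsg.Agent.H194.Ore

open CoxeterSystem Cfsg.Agent.ChevalleyStructure.CoxeterGeom Cfsg.Agent.Tits.Roots Cfsg.Agent.Tits.Core
  Cfsg.Agent.Nodes.Reps Cfsg.Agent.Nodes.BNOf Cfsg.Agent.Nodes.RGDLib Cfsg.Agent.Nodes.Bruhat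
  Cfsg.Agent.Nodes.OppDec Cfsg.Agent.Nodes.LeviDec Cfsg.Agent.Nodes.KindChev Cfsg.Agent.Nodes.ChevCls
  Cfsg.Agent.OddHalf.NI.ModelChev Cfsg.Agent.Nodes.StabComb
  Cfsg.Agent.H162.GaussDec Cfsg.Agent.H162.GaussLevi Cfsg.Agent.H162.GaussSL Cfsg.Agent.H162.GaussReg
  Cfsg.Agent.H162.GaussPQ
  Cfsg.Agent.H928.Ore.Frame Cfsg.Agent.H928.Ore.Fix
open Cfsg.Lie Cfsg.Agent.ChevalleyStructure Cfsg.Agent.ChevalleyStructure.Elts
  Cfsg.Agent.ChevalleyStructure.RootVec Cfsg.Agent.ChevalleyStructure.NPerm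
  Cfsg.Agent.ChevalleyStructure.CoxeterGeomTypes Cfsg.Agent.Nodes.RGDChev Cfsg.Agent.KFacts.RgdChevCoord
open Cfsg.Agent.TitsThree.KExcRT Cfsg.Agent.H335.Sr Cfsg.Agent.H129.TorusChar Cfsg.Agent.H777.Ore
open Cfsg.Agent.H162.GaussExc (sg sg_mem ch_sg act_sg wd fr fr_lt wd_act fr_vec wd_norm eq_of_ch prod_zpow coord)
open Cfsg.Agent.H224.Ore.Row (not_mem_core two_of_inv two_inv two_conj)

universe u

/-- the table -/
structure Tab (D : ChevalleyDatum) (l : ℕ) (J : List (Fin l)) (m : Fin l → ℤ) (γ : Fin l → Fin l)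
    (ω ω₁ : List (Fin l)) (r : Fin 3 → Fin 3 → ℕ) (ε : ℤ) (i j : Fin l) : Prop where
  hi : r 0 1 = D.simple i
  hj : r 1 2 = D.simple j
  ra : RTa D r
  rb : RTb D r fun _ _ => ε
  rc : RTc D r
  rn : ∀ a b, a ≠ b → r b a = D.neg (r a b)
  rJ : ∀ a b, a ≠ b → ∀ k, k ∉ J → vec D l (r a b) k = 0
  sub : ∀ q < D.nroots, (∀ k, k ∉ J → vec D l q k = 0) → ∃ a b, a ≠ b ∧ r a b = q ∧
    (a < b → ∃ k, 0 < vec D l q k) ∧ (b < a → ∃ k, vec D l q k < 0)
  m0 : ∀ a b, a ≠ b → ∑ k : Fin l, m k * D.cartan k (r a b) = 0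
  out : ∀ s < D.nroots, (∃ k, k ∉ J ∧ vec D l s k ≠ 0) → Minus D i j s ∨
    (D.cartan i s = 0 ∧ D.cartan j s = 0 ∧
      (|∑ k : Fin l, m k * D.cartan k s| = 1 ∨ |∑ k : Fin l, m k * D.cartan k s| = 2))
  gg : ∀ k, γ (γ k) = k
  wg : ∀ k : Fin l, fr D ω (D.simple k) = D.neg (D.simple (γ k))
  wr : ∀ a b, a ≠ b → fr D ω (r a b) = r b a
  mg : ∀ i : Fin l, ∑ k : Fin l, m k * D.cartan k (D.simple (γ i)) = ∑ k : Fin l, m k * D.cartan k (D.simple i)
  w1 : ∀ i ∈ ω₁, ∀ a b, a ≠ b → D.reflectRoot i (r a b) = r a b ∧ NSimple.eta D i (r a b) = 1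
  wm : ∀ s < D.nroots, ∑ k : Fin l, m k * D.cartan k (fr D ω₁ s) = -∑ k : Fin l, m k * D.cartan k s

/-- every product of a lower and an upper unitriangular matrix is a product of two elements with irreducible
characteristic polynomials, equal or inverse to each other -/
def M3 (K : Type*) [Field K] : Prop :=
  ∀ L ∈ LT 3 K, ∀ U ∈ UT 3 K, ∃ X Y : Matrix.SpecialLinearGroup (Fin 3) K, L * U = X * Y ∧
    Irreducible (X : Matrix (Fin 3) (Fin 3) K).charpoly ∧ Irreducible (Y : Matrix (Fin 3) (Fin 3) K).charpoly ∧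
    ((Y : Matrix (Fin 3) (Fin 3) K).charpoly = (X : Matrix (Fin 3) (Fin 3) K).charpoly ∨
      (Y : Matrix (Fin 3) (Fin 3) K).charpoly =
        ((X⁻¹ : Matrix.SpecialLinearGroup (Fin 3) K) : Matrix (Fin 3) (Fin 3) K).charpoly)

section

variable {D : ChevalleyDatum} {l : ℕ} {M : CoxeterMatrix (Fin l)} (hp : IsType D l M) {K : Type u} [Field K]
  {J : List (Fin l)} {m : Fin l → ℤ} {γ : Fin l → Fin l} {ω ω₁ : List (Fin l)} {r : Fin 3 → Fin 3 → ℕ} {ε : ℤ}
  {i j : Fin l} (T : Tab D l J m γ ω ω₁ r ε i j) (t : Kˣ)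

/-- a word inverting the weights inverts the element of the torus -/
theorem wd_sg [Finite K] (p : ℕ) [Fact p.Prime] [CharP K p] (hZ : Subgroup.center ↥(D.group K) = ⊥)
    (hm : ∀ s < D.nroots, ∑ k : Fin l, m k * D.cartan k (fr D ω s) = -∑ k : Fin l, m k * D.cartan k s) :
    wd hp K ω * sg hp m t * (wd hp K ω)⁻¹ = (sg hp m t)⁻¹ := by
  have hs := sg_mem (K := K) hp m t
  have hn := wd_norm (K := K) hp p ω
  have hn' := inv_mem hn
  have h1 : (wd hp K ω)⁻¹ * sg hp m t * (wd hp K ω) ∈ TT D K := by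
    have := (Subgroup.mem_normalizer_iff.1 hn' (sg hp m t)).1 hs
    rwa [inv_inv] at this
  have h2 : (wd hp K ω)⁻¹ * sg hp m t * wd hp K ω = (sg hp m t)⁻¹ := by
    refine eq_of_ch hp hZ h1 (inv_mem hs) fun r hr => ?_
    obtain ⟨c, hc, e⟩ := wd_act (K := K) hp ω hr
    have e1 : ch hp (vec D l r) (sg hp m t)⁻¹ = ((t ^ (-∑ k : Fin l, m k * D.cartan k r) : Kˣ) : K) := by
      refine ch_eq hp hr (inv_mem hs) ?_
      have h3 := act_sg (K := K) hp m t hr (((t ^ (-∑ k : Fin l, m k * D.cartan k r) : Kˣ) : K))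
      rw [← Units.val_mul, ← zpow_add, add_neg_cancel, zpow_zero, Units.val_one] at h3
      rw [← h3]
      group
    rw [e1]
    refine ch_eq hp hr h1 ?_
    have h4 := act_sg (K := K) hp m t (fr_lt hp ω hr) (c * 1)
    rw [← e 1, hm r hr] at h4
    have h5 : wd hp K ω * xc hp (vec D l r) ((t ^ (-∑ k : Fin l, m k * D.cartan k r) : Kˣ) : K) * (wd hp K ω)⁻¹ =
        sg hp m t * (wd hp K ω * xc hp (vec D l r) 1 * (wd hp K ω)⁻¹) * (sg hp m t)⁻¹ := by
      rw [h4, e]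
      congr 1
      ring
    calc (wd hp K ω)⁻¹ * sg hp m t * wd hp K ω * xc hp (vec D l r) 1 * ((wd hp K ω)⁻¹ * sg hp m t * wd hp K ω)⁻¹
        = (wd hp K ω)⁻¹ * (sg hp m t * (wd hp K ω * xc hp (vec D l r) 1 * (wd hp K ω)⁻¹) * (sg hp m t)⁻¹) *
            wd hp K ω := by group
      _ = _ := by rw [← h5]; group
  have h3 : sg hp m t = wd hp K ω * (sg hp m t)⁻¹ * (wd hp K ω)⁻¹ := by rw [← h2]; group
  calc wd hp K ω * sg hp m t * (wd hp K ω)⁻¹ = (wd hp K ω * (sg hp m t)⁻¹ * (wd hp K ω)⁻¹)⁻¹ := by group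
    _ = (sg hp m t)⁻¹ := by rw [← h3]

variable {φ : Matrix.SpecialLinearGroup (Fin 3) K →* ↥(D.group K)}
  (hφ : ∀ a b (hab : a ≠ b) c, φ (Matrix.SpecialLinearGroup.transvection hab c) = xc hp (vec D l (r a b)) ((ε : K) * c))

include T hφ

theorem Tab.comm (A : Matrix.SpecialLinearGroup (Fin 3) K) : sg hp m t * φ A = φ A * sg hp m t := by
  refine Cfsg.Agent.H928.Ore.Block.comm_phi hp T.ra hφ (sg_mem hp m t) (fun a b hab => ?_) A
  rw [ch_sg hp m t (T.ra a b hab), T.m0 a b hab, zpow_zero, Units.val_one]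

theorem Tab.wd_phi (A : Matrix.SpecialLinearGroup (Fin 3) K) : wd hp K ω₁ * φ A * (wd hp K ω₁)⁻¹ = φ A := by
  have h1 : ∀ L : List (Fin l), (∀ i ∈ L, i ∈ ω₁) → wd hp K L * φ A * (wd hp K L)⁻¹ = φ A := by
    intro L hL
    induction L with
    | nil =>
      change 1 * φ A * 1⁻¹ = _
      group
    | cons i L ih =>
      have h2 : wd hp K (i :: L) = nc hp K i * wd hp K L := by
        unfold wd
        rw [List.map_cons, List.prod_cons]
      have h3 : (MulAut.conj (nc hp K i)).toMonoidHom.comp φ = φ := by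
        refine hom_ext fun a b hab c => ?_
        change nc hp K i * φ _ * (nc hp K i)⁻¹ = φ _
        obtain ⟨h4, h5⟩ := T.w1 i (hL i List.mem_cons_self) a b hab
        rw [hφ, nc_conj hp i (T.ra a b hab), h4, h5, Int.cast_one, one_mul]
      have h4 := DFunLike.congr_fun h3 A
      change nc hp K i * φ A * (nc hp K i)⁻¹ = φ A at h4
      rw [h2]
      calc nc hp K i * wd hp K L * φ A * (nc hp K i * wd hp K L)⁻¹
          = nc hp K i * (wd hp K L * φ A * (wd hp K L)⁻¹) * (nc hp K i)⁻¹ := by group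
        _ = φ A := by rw [ih fun k hk => hL k (List.mem_cons_of_mem _ hk), h4]
  exact h1 ω₁ fun _ h => h

theorem Tab.range (A : Matrix.SpecialLinearGroup (Fin 3) K) :
    φ A ∈ LJ M.toCoxeterSystem hp.isCartan (TT D K) (XX D l K) {k | k ∈ J} :=
  Cfsg.Agent.H928.Ore.Block.phi_mem hp T.ra hφ (J := {k | k ∈ J}) T.rJ A

variable (hε : ε * ε = 1)

include hε

theorem Tab.up : UJ M.toCoxeterSystem hp.isCartan (XX D l K) {k | k ∈ J} ≤ (UT 3 K).map φ := by
  have hεK : (ε : K) * (ε : K) = 1 := by rw [← Int.cast_mul, hε, Int.cast_one]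
  refine RGD.Sup_le fun x hx => ?_
  obtain ⟨q, hq, rfl⟩ := (isRoot_iff hp _ x).1 hx.1
  obtain ⟨a, b, hab, rfl, h1, h2⟩ := T.sub q hq hx.2.2
  have hlt : a < b := by
    rcases lt_or_gt_of_ne hab with h | h
    · exact h
    · obtain ⟨k, hk⟩ := h2 h
      exact absurd (hx.2.1 k) (not_le.2 hk)
  intro y hy
  obtain ⟨c, rfl⟩ := (mem_XX hp hq y).1 hy
  refine ⟨Matrix.SpecialLinearGroup.transvection hab ((ε : K) * c), tv_mem_UT hab hlt _, ?_⟩
  rw [hφ, ← mul_assoc, hεK, one_mul]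

theorem Tab.lo : UNJ M.toCoxeterSystem hp.isCartan (XX D l K) {k | k ∈ J} ≤ (LT 3 K).map φ := by
  have hεK : (ε : K) * (ε : K) = 1 := by rw [← Int.cast_mul, hε, Int.cast_one]
  refine RGD.Sup_le fun x hx => ?_
  have hx1 := hx.1.neg
  rw [_root_.neg_neg] at hx1
  obtain ⟨q, hq, rfl⟩ := (isRoot_iff hp _ x).1 hx1
  obtain ⟨a, b, hab, rfl, h1, h2⟩ := T.sub q hq (fun k hk => by
    have := hx.2.2 k hk
    rwa [Pi.neg_apply, neg_eq_zero] at this)
  have hlt : b < a := by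
    rcases lt_or_gt_of_ne hab with h | h
    · obtain ⟨k, hk⟩ := h1 h
      have h3 := hx.2.1 k
      rw [Pi.neg_apply, Pi.zero_apply, Left.nonneg_neg_iff] at h3
      exact absurd hk (not_lt.2 h3)
    · exact h
  intro y hy
  obtain ⟨c, rfl⟩ := (mem_XX hp hq y).1 hy
  refine ⟨Matrix.SpecialLinearGroup.transvection hab ((ε : K) * c), tv_mem_LT hab hlt _, ?_⟩
  rw [hφ, ← mul_assoc, hεK, one_mul]

/-- **No fixed points.** -/
theorem Tab.nf [Finite K] (h1 : t ≠ 1) (h2 : t * t ≠ 1) {x : Matrix.SpecialLinearGroup (Fin 3) K}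
    (hx : Irreducible (x : Matrix (Fin 3) (Fin 3) K).charpoly) :
    NF (VJ M.toCoxeterSystem hp.isCartan (XX D l K) {k | k ∈ J}) (sg hp m t * φ x) ∧
      NF (VNJ M.toCoxeterSystem hp.isCartan (XX D l K) {k | k ∈ J}) (sg hp m t * φ x) := by
  have hpr : ∀ s, ∏ k : Fin l, ((t ^ m k : Kˣ) : K) ^ D.cartan k s =
      ((t ^ (∑ k : Fin l, m k * D.cartan k s) : Kˣ) : K) := by
    intro s
    rw [← prod_zpow, Units.coe_prod]
    refine Finset.prod_congr rfl fun k _ => ?_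
    rw [← Units.val_zpow_eq_zpow_val, ← zpow_mul]
  refine nf_irr hp hε T.ra T.rb T.rc T.rn hφ T.hi T.hj (J := {k | k ∈ J}) T.rJ (σ := fun k => t ^ m k)
    (fun a b hab => by rw [hpr, T.m0 a b hab, zpow_zero, Units.val_one]) (fun s hs hk => ?_) hx
  rcases T.out s hs hk with h3 | ⟨h3, h4, h5⟩
  · exact .inl h3
  · refine .inr ⟨h3, h4, ?_⟩
    rw [hpr]
    intro h6
    have h7 : t ^ (∑ k : Fin l, m k * D.cartan k s) = 1 := Units.ext (by rw [h6, Units.val_one])
    rcases h5 with h5 | h5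
    · rcases abs_eq (by norm_num : (0 : ℤ) ≤ 1) |>.1 h5 with h8 | h8 <;> rw [h8] at h7
      · rw [zpow_one] at h7; exact h1 h7
      · rw [zpow_neg_one, inv_eq_one] at h7; exact h1 h7
    · rcases abs_eq (by norm_num : (0 : ℤ) ≤ 2) |>.1 h5 with h8 | h8 <;> rw [h8] at h7
      · rw [zpow_two] at h7; exact h2 h7
      · rw [zpow_neg, inv_eq_one, zpow_two] at h7; exact h2 h7

/-- **Strongly real.** -/
theorem Tab.real [Finite K] (p : ℕ) [Fact p.Prime] [CharP K p] {d : ℕ} {B : Fin l → Fin l → ℤ} (hB : InvC D l d B)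
    (hd : Odd d) {x : Matrix.SpecialLinearGroup (Fin 3) K}
    (hx : Irreducible (x : Matrix (Fin 3) (Fin 3) K).charpoly) :
    ∃ y : ↥(D.group K), y * y = 1 ∧ y * (sg hp m t * φ x) * y⁻¹ = (sg hp m t * φ x)⁻¹ := by
  have R := rgd (K := K) hp M.toCoxeterSystem p
  have hw : ∀ q < D.nroots, rep M.toCoxeterSystem hp.isCartan (M.toCoxeterSystem.wordProd ω) (vec D l q) =
      vec D l (fr D ω q) := fun q hq => (fr_vec hp M.toCoxeterSystem ω hq).symm
  obtain ⟨z, Z⟩ := exists_ZD (K := K) hp M.toCoxeterSystem R.nsys (w := M.toCoxeterSystem.wordProd ω) T.gg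
    (fun k => by
      have hk := simple_lt hp.inList (lt_rank hp k)
      rw [← vec_simple hp k, hw _ hk, T.wg, vec_neg hp (simple_lt hp.inList (lt_rank hp (γ k))), vec_simple hp])
    hB hd (fun _ => 1) (fun _ => .inl rfl) (fun _ => rfl)
  have hεK : (ε : K) * (ε : K) = 1 := by rw [← Int.cast_mul, hε, Int.cast_one]
  obtain ⟨S, h1, h2⟩ := Z.inv_block (n := 1) (r := r) (s := fun _ _ => (ε : K)) T.ra T.rn
    (fun a b hab => by rw [hw _ (T.ra a b hab), T.wr a b hab, T.rn a b hab, vec_neg hp (T.ra a b hab)])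
    (fun _ _ _ => hεK) hφ T.gg (sg_mem hp m t) (fun k => by
      have h3 := simple_lt hp.inList (lt_rank hp k)
      have h4 := simple_lt hp.inList (lt_rank hp (γ k))
      rw [← vec_simple hp k, ← vec_simple hp (γ k), ch_sg hp m t h3, ch_sg hp m t h4, T.mg])
    (T.comm hp t hφ) (X := x) fun δ _ => exists_symm x.1 hx δ
  exact ⟨_, h1, h2⟩

/-- the pairs for the frame -/
theorem Tab.pr [Finite K] (h1 : t ≠ 1) (h2 : t * t ≠ 1) (p : ℕ) [Fact p.Prime] [CharP K p]
    (hZ : Subgroup.center ↥(D.group K) = ⊥) {d : ℕ} {B : Fin l → Fin l → ℤ} (hB : InvC D l d B)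
    (hd : Odd d) (hm3 : M3 K) :
    ∀ v ∈ UNJ M.toCoxeterSystem hp.isCartan (XX D l K) {k | k ∈ J},
      ∀ u ∈ UJ M.toCoxeterSystem hp.isCartan (XX D l K) {k | k ∈ J}, ∃ c₁ c₂, v * u = c₁ * c₂ ∧
        LP M.toCoxeterSystem hp.isCartan (TT D K) (XX D l K) {k | k ∈ J} c₁ c₂ ∧
        (∃ y, c₂ = y * c₁⁻¹ * y⁻¹) ∧ (∃ a b : ↥(D.group K), a ^ 2 = 1 ∧ b ^ 2 = 1 ∧ c₁ = a * b) ∧
        ∃ a b : ↥(D.group K), a ^ 2 = 1 ∧ b ^ 2 = 1 ∧ c₂ = a * b := by
  intro v hv u hu
  obtain ⟨L, hL, rfl⟩ := T.lo hp hφ hε hv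
  obtain ⟨U, hU, rfl⟩ := T.up hp hφ hε hu
  obtain ⟨X, Y, hXY, hX, hY, hc⟩ := hm3 L hL U hU
  have hsT : sg hp m t ∈ LJ M.toCoxeterSystem hp.isCartan (TT D K) (XX D l K) {k | k ∈ J} := T_le_LJ (sg_mem hp m t)
  have hti : (sg hp m t)⁻¹ = sg hp m t⁻¹ := by
    refine inv_eq_of_mul_eq_one_right ?_
    unfold sg
    rw [← map_mul]
    convert map_one (th hp)
    funext k
    rw [Pi.mul_apply, inv_zpow, mul_inv_cancel]
    rfl
  obtain ⟨y, hy1, hy2⟩ := T.real hp t hφ hε p hB hd hX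
  obtain ⟨y', hy1', hy2'⟩ := T.real hp t⁻¹ hφ hε p hB hd hY
  rw [← hti] at hy2'
  refine ⟨sg hp m t * φ X, (sg hp m t)⁻¹ * φ Y, ?_, ⟨mul_mem hsT (T.range hp hφ X),
    mul_mem (inv_mem hsT) (T.range hp hφ Y), (T.nf hp t hφ hε h1 h2 hX).2, ?_⟩, ?_, two_of_inv hy1 hy2,
    two_of_inv hy1' hy2'⟩
  · rw [← map_mul, hXY, map_mul]
    calc φ X * φ Y = (sg hp m t)⁻¹ * (sg hp m t * φ X) * φ Y := by group
      _ = (sg hp m t)⁻¹ * (φ X * sg hp m t) * φ Y := by rw [T.comm hp t hφ]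
      _ = (sg hp m t)⁻¹ * (φ X * (sg hp m t * φ Y)) := by group
      _ = (sg hp m t)⁻¹ * (φ X * (φ Y * sg hp m t)) := by rw [T.comm hp t hφ Y]
      _ = (sg hp m t)⁻¹ * (φ (X * Y) * sg hp m t) := by rw [map_mul]; group
      _ = φ (X * Y) := by rw [← T.comm hp t hφ]; group
      _ = φ X * φ Y := map_mul _ _ _
      _ = (φ X * sg hp m t) * ((sg hp m t)⁻¹ * φ Y) := by group
      _ = _ := by rw [← T.comm hp t hφ]
  · rw [hti]
    exact (T.nf hp t⁻¹ hφ hε (by rwa [ne_eq, inv_eq_one]) (by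
      rw [← mul_inv, ne_eq, inv_eq_one]
      exact h2) hY).1
  · rcases hc with hc | hc
    · obtain ⟨g, hg⟩ := Cfsg.Agent.H150.MF.exists_conj (Cfsg.Agent.H150.MF.cls_of_irreducible hX)
        (Cfsg.Agent.H150.MF.cls_of_irreducible hY) hc.symm
      refine ⟨φ g * wd hp K ω₁ * y⁻¹, ?_⟩
      have e1 : (sg hp m t * φ X)⁻¹ = y * (sg hp m t * φ X) * y⁻¹ := hy2.symm
      have e2 := T.comm hp t hφ g
      have e3 := wd_sg hp t p hZ T.wm
      have e4 := T.wd_phi hp hφ X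
      calc (sg hp m t)⁻¹ * φ Y = (sg hp m t)⁻¹ * (φ g * φ X * (φ g)⁻¹) := by rw [hg, map_mul, map_mul, map_inv]
        _ = φ g * ((sg hp m t)⁻¹ * φ X) * (φ g)⁻¹ := by
          have e5 : (sg hp m t)⁻¹ * φ g = φ g * (sg hp m t)⁻¹ := by
            calc (sg hp m t)⁻¹ * φ g = (sg hp m t)⁻¹ * (φ g * sg hp m t) * (sg hp m t)⁻¹ := by group
              _ = _ := by rw [← e2]; group
          calc (sg hp m t)⁻¹ * (φ g * φ X * (φ g)⁻¹) = ((sg hp m t)⁻¹ * φ g) * φ X * (φ g)⁻¹ := by group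
            _ = _ := by rw [e5]; group
        _ = φ g * ((wd hp K ω₁ * sg hp m t * (wd hp K ω₁)⁻¹) * (wd hp K ω₁ * φ X * (wd hp K ω₁)⁻¹)) * (φ g)⁻¹ := by
          rw [e3, e4]
        _ = (φ g * wd hp K ω₁ * y⁻¹) * (y * (sg hp m t * φ X) * y⁻¹) * (φ g * wd hp K ω₁ * y⁻¹)⁻¹ := by group
        _ = _ := by rw [← e1]
    · have hXi : Irreducible ((X⁻¹ : Matrix.SpecialLinearGroup (Fin 3) K) : Matrix (Fin 3) (Fin 3) K).charpoly := by
        rw [← hc]
        exact hY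
      obtain ⟨g, hg⟩ := Cfsg.Agent.H150.MF.exists_conj (Cfsg.Agent.H150.MF.cls_of_irreducible hXi)
        (Cfsg.Agent.H150.MF.cls_of_irreducible hY) hc.symm
      refine ⟨φ g, ?_⟩
      have e2 := T.comm hp t hφ g
      have e3 := T.comm hp t hφ X
      have e5 : (sg hp m t)⁻¹ * φ g = φ g * (sg hp m t)⁻¹ := by
        calc (sg hp m t)⁻¹ * φ g = (sg hp m t)⁻¹ * (φ g * sg hp m t) * (sg hp m t)⁻¹ := by group
          _ = _ := by rw [← e2]; group
      calc (sg hp m t)⁻¹ * φ Y = ((sg hp m t)⁻¹ * φ g) * (φ X)⁻¹ * (φ g)⁻¹ := by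
            rw [hg, map_mul, map_mul, map_inv, map_inv]; group
        _ = φ g * (φ X * sg hp m t)⁻¹ * (φ g)⁻¹ := by rw [e5]; group
        _ = _ := by rw [← e3]

end

/-- **The row.** -/
theorem row {D : ChevalleyDatum} {l : ℕ} {M : CoxeterMatrix (Fin l)} (hp : IsType D l M) {K : Type u} [Field K]
    [Finite K] (hK : 4 ≤ Nat.card K) {J : List (Fin l)} {m : Fin l → ℤ} {γ : Fin l → Fin l} {ω ω₁ : List (Fin l)}
    {r : Fin 3 → Fin 3 → ℕ} {ε : ℤ} (hε : ε * ε = 1) {i j : Fin l} (T : Tab D l J m γ ω ω₁ r ε i j)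
    (hS : IsSimpleGroup ↥(D.group K) ∧ ¬ IsMulCommutative ↥(D.group K))
    (hM : ∀ J : Finset (Fin l), J = ∅ ∨ J = Finset.univ ∨ ∃ a ∈ J, ∃ b, b ∉ J ∧ M a b ≠ 2)
    {d : ℕ} {B : Fin l → Fin l → ℤ} (hB : InvC D l d B) (hd : Odd d) (hm3 : M3 K) :
    AllC ↥(D.group K) ∧ Inv4 ↥(D.group K) := by
  obtain ⟨p, hpc⟩ := CharP.exists K
  have : Fact p.Prime := ⟨(CharP.char_is_prime_or_zero K p).resolve_right (CharP.char_ne_zero_of_finite K p)⟩
  have := finite_W hp M.toCoxeterSystem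
  have hZ := Cfsg.Agent.Nodes.ChevChart.center_eq_bot hS
  have hl : 0 < l := i.pos
  obtain ⟨φ, hφ⟩ := Cfsg.Agent.H162.GaussExcMain.exists_hom_D hp (K := K) hε T.ra T.rb T.rc T.rn
  -- the unit
  obtain ⟨t, ht1, ht2⟩ : ∃ t : Kˣ, t ≠ 1 ∧ t * t ≠ 1 := by
    by_contra hcon
    push Not at hcon
    have h1 : ∀ x : K, x = 0 ∨ x = 1 ∨ x = -1 := by
      intro x
      by_cases hx : x = 0
      · exact .inl hx
      · right
        by_cases h1 : x = 1
        · exact .inl h1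
        · right
          have h2 := hcon (Units.mk0 x hx) (fun h => h1 (by
            have := congrArg Units.val h
            simpa using this))
          have h3 : x * x = 1 := by
            have := congrArg Units.val h2
            simpa only [_root_.Units.val_mul, _root_.Units.val_mk0, _root_.Units.val_one] using this
          rcases mul_self_eq_one_iff.1 h3 with h4 | h4
          · exact absurd h4 h1
          · exact h4
    classical
    have := Fintype.ofFinite K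
    have h2 : (Finset.univ : Finset K) ⊆ {0, 1, -1} := by
      intro x _
      simp only [Finset.mem_insert, Finset.mem_singleton]
      exact h1 x
    have h3 := Finset.card_le_card h2
    rw [Finset.card_univ, ← Nat.card_eq_fintype_card] at h3
    have h4 : ({0, 1, -1} : Finset K).card ≤ 3 := Finset.card_le_three
    omega
  have hpr := T.pr hp t hφ hε ht1 ht2 p hZ hB hd hm3
  refine ⟨fun g => ?_, fun g => ?_⟩
  · by_cases hg : g = 1
    · exact hg ▸ isC_one
    exact Cfsg.Agent.H928.Ore.Frame.comm (rgd (K := K) hp M.toCoxeterSystem p) (G1_eq_top hp _) (coord hp)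
      (Cfsg.Agent.Nodes.ChevChart.irr_of hM) (J := {k | k ∈ J}) (fun v hv u hu => by
        obtain ⟨c₁, c₂, h1, h2, h3, -⟩ := hpr v hv u hu
        exact ⟨c₁, c₂, h1, h2, h3⟩) (not_mem_core hl hS.1 p hp hg)
  · by_cases hg : g = 1
    · exact ⟨1, 1, 1, 1, by simp, by simp, by simp, by simp, by rw [hg]; simp⟩
    obtain ⟨a, b, c, d, ha, hb, hc, hd, e⟩ := four (rgd (K := K) hp M.toCoxeterSystem p) (G1_eq_top hp _) (coord hp)
      (Cfsg.Agent.Nodes.ChevChart.irr_of hM) (J := {k | k ∈ J}) (fun v hv u hu => by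
        obtain ⟨c₁, c₂, h1, h2, -, h3⟩ := hpr v hv u hu
        exact ⟨c₁, c₂, h1, h2, h3⟩) (not_mem_core hl hS.1 p hp hg)
    exact ⟨a, b, c, d, by rw [← pow_two, ha], by rw [← pow_two, hb], by rw [← pow_two, hc], by rw [← pow_two, hd], e⟩

/-! ### Decidable forms of the parts of the table -/

section Tables

variable (D : ChevalleyDatum) (l : ℕ) (J : List (Fin l)) (m : Fin l → ℤ) (γ : Fin l → Fin l)
    (ω ω₁ : List (Fin l)) (r : Fin 3 → Fin 3 → ℕ) (i j : Fin l)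

/-- decidable form, the block -/
def ChkA : Prop :=
  r 0 1 = D.simple i ∧ r 1 2 = D.simple j ∧
  (∀ a b, a ≠ b → ∀ k, k ∉ J → vec D l (r a b) k = 0) ∧
  (∀ a b, a ≠ b → ∑ k : Fin l, m k * D.cartan k (r a b) = 0) ∧
  ∀ a b, a ≠ b → fr D ω (r a b) = r b a

instance : Decidable (ChkA D l J m ω r i j) := by
  unfold ChkA; infer_instance

/-- decidable form, the long word -/
def ChkG : Prop :=
  (∀ k, γ (γ k) = k) ∧ (∀ k : Fin l, fr D ω (D.simple k) = D.neg (D.simple (γ k))) ∧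
  ∀ i : Fin l, ∑ k : Fin l, m k * D.cartan k (D.simple (γ i)) = ∑ k : Fin l, m k * D.cartan k (D.simple i)

instance : Decidable (ChkG D l m γ ω) := by
  unfold ChkG; infer_instance

/-- decidable form, the short word -/
def ChkW : Prop :=
  ∀ i ∈ ω₁, ∀ a b, a ≠ b → D.reflectRoot i (r a b) = r a b ∧ NSimple.eta D i (r a b) = 1

instance : Decidable (ChkW D l ω₁ r) := by
  unfold ChkW; infer_instance

/-- decidable form, the roots outside `J` -/
def ChkO : Prop :=
  ∀ s < D.nroots, (∃ k, k ∉ J ∧ vec D l s k ≠ 0) → Minus D i j s ∨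
    (D.cartan i s = 0 ∧ D.cartan j s = 0 ∧
      (|∑ k : Fin l, m k * D.cartan k s| = 1 ∨ |∑ k : Fin l, m k * D.cartan k s| = 2))

instance : Decidable (ChkO D l J m i j) := by
  unfold ChkO; infer_instance

/-- decidable form, the word inverting the element of the torus -/
def ChkM : Prop :=
  ∀ s < D.nroots, ∑ k : Fin l, m k * D.cartan k (fr D ω₁ s) = -∑ k : Fin l, m k * D.cartan k s

instance : Decidable (ChkM D l m ω₁) := by
  unfold ChkM; infer_instance

end Tables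

end Cfsg.Agent.H194.Ore
end

private theorem dce_f6d879d69971 : _root_.True := by
  try have : _root_.True := by simp only [_root_.Cfsg.Agent.OddHalf.NI.ModelChev.sl.congr_simp]
  exact _root_.True.intro
end

-- part: H85/Pw/EBlk
section
prune_inst 0x240040003100000000000000822020640e00019000200800088001420501030280820060b6901000828c2205403c0008110000100200000000000000011801801008100430000000020000000004000000000000000000000000000000000004000000000
set_option linter.all false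
open scoped Cfsg.Agent.FastGrp

-- part: H85/Pw/ZetaN
section
/-!
# Eigenvalues of prescribed order (S2465)

`exists_zetN` : as `exists_zet`, with `lam a ^ N = 1`, for every divisor `N` of `q^m - 1` with `(q^m - 1)/(q - 1) < N`.
-/

set_option autoImplicit false

namespace Cfsg.Agent.H85.Pw

open Polynomial Cfsg.Agent.H224.Ore.Zeta

theorem sum_pow_le {q m : ℕ} (S : Finset (Fin m)) : ∑ a ∈ S, q ^ (a : ℕ) ≤ ∑ a ∈ Finset.range m, q ^ a := by
  have h1 : ∑ a ∈ S, q ^ (a : ℕ) ≤ ∑ a : Fin m, q ^ (a : ℕ) :=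
    Finset.sum_le_sum_of_subset (Finset.subset_univ _)
  have h2 : ∑ a : Fin m, q ^ (a : ℕ) = ∑ a ∈ Finset.range m, q ^ a := Fin.sum_univ_eq_sum_range (fun a => q ^ a) m
  omega

theorem exists_zetN (K : Type*) [Field K] [Finite K] {m : ℕ} (hm : 2 ≤ m) {N : ℕ} (hN : N ∣ Nat.card K ^ m - 1)
    (hlt : ∑ a ∈ Finset.range m, Nat.card K ^ a < N) :
    ∃ (K' : Type) (_ : Field K') (_ : Finite K') (i : K →+* K') (ν : K) (p : K[X]) (lam : Fin (m + 1) → K'),
      Zet i m ν p lam ∧ ∀ a, lam a ^ N = 1 := by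
  have hq : 2 ≤ Nat.card K := Finite.one_lt_card
  classical
  obtain ⟨ch, hch⟩ := CharP.exists K
  have hp : Fact ch.Prime := ⟨(CharP.char_is_prime_or_zero K ch).resolve_right (CharP.char_ne_zero_of_finite K ch)⟩
  have hm0 : NeZero m := ⟨by omega⟩
  let K' := FiniteField.Extension K ch m
  have hK' : Nat.card K' = Nat.card K ^ m := FiniteField.natCard_extension K ch m
  obtain ⟨q, hqe⟩ : ∃ q, q = Nat.card K := ⟨_, rfl⟩
  rw [← hqe] at hK' hq hN hlt
  let i : K →+* K' := algebraMap K K'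
  -- a generator
  have : Fintype K' := Fintype.ofFinite K'
  obtain ⟨z, hz⟩ := IsCyclic.exists_ofOrder_eq_natCard (α := K'ˣ)
  have hcz : Nat.card K'ˣ = q ^ m - 1 := by
    rw [Nat.card_units, hK']
  rw [hcz] at hz
  obtain ⟨k, hk⟩ := hN
  have hqm : 0 < q ^ m - 1 := by
    have : 1 < q ^ m := Nat.one_lt_pow (by omega) (by omega)
    omega
  have hN0 : 0 < N := Nat.pos_of_ne_zero fun h => by rw [h, zero_mul] at hk; omega
  have hk0 : k ≠ 0 := fun h => by rw [h, mul_zero] at hk; omega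
  obtain ⟨ζ, hζ⟩ : ∃ ζ : K', ζ = ((z ^ k : K'ˣ) : K') := ⟨_, rfl⟩
  have ho : orderOf ζ = N := by
    rw [hζ, orderOf_units, orderOf_pow_of_dvd hk0 (by rw [hz, hk]; exact Dvd.intro_left N rfl), hz, hk,
      Nat.mul_div_cancel _ (Nat.pos_of_ne_zero hk0)]
  have hζ0 : ζ ≠ 0 := by rw [hζ]; exact (z ^ k).ne_zero
  -- the conjugates
  let μ : Fin m → K' := fun a => ζ ^ q ^ (a : ℕ)
  have hprod : ∀ S : Finset (Fin m), ∏ a ∈ S, μ a = ζ ^ ∑ a ∈ S, q ^ (a : ℕ) := fun S => Finset.prod_pow_eq_pow_sum S _ _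
  have hsub : ∀ S : Finset (Fin m), S.Nonempty → ∏ a ∈ S, μ a ≠ 1 := by
    intro S hS h1
    rw [hprod, ← orderOf_dvd_iff_pow_eq_one, ho] at h1
    have h2 := (sum_pow_le (q := q) S).trans_lt hlt
    have h3 : 0 < ∑ a ∈ S, q ^ (a : ℕ) := Finset.sum_pos (fun a _ => pow_pos (by omega) _) hS
    exact absurd (Nat.le_of_dvd h3 h1) (by omega)
  have hinjμ : Function.Injective μ := by
    have key : ∀ a b : Fin m, a < b → μ a ≠ μ b := by
      intro a b hab h1
      have hab' : (a : ℕ) < b := hab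
      have hle : q ^ (a : ℕ) < q ^ (b : ℕ) := Nat.pow_lt_pow_right (by omega) hab'
      have h2 : ζ ^ (q ^ (b : ℕ) - q ^ (a : ℕ)) = 1 := by
        have h3 : ζ ^ (q ^ (b : ℕ) - q ^ (a : ℕ)) * ζ ^ q ^ (a : ℕ) = 1 * ζ ^ q ^ (a : ℕ) := by
          rw [← pow_add, Nat.sub_add_cancel hle.le, one_mul]
          exact h1.symm
        exact mul_right_cancel₀ (pow_ne_zero _ hζ0) h3
      rw [← orderOf_dvd_iff_pow_eq_one, ho] at h2
      have h3 := Nat.le_of_dvd (by omega) h2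
      have h4 : q ^ (b : ℕ) ≤ q ^ (m - 1) := Nat.pow_le_pow_right (by omega) (by have := b.2; omega)
      have h5 : q ^ (m - 1) ≤ ∑ a ∈ Finset.range m, q ^ a :=
        Finset.single_le_sum (f := fun a => q ^ a) (fun _ _ => Nat.zero_le _) (Finset.mem_range.2 (by omega))
      omega
    intro a b h1
    by_contra hab
    rcases lt_or_gt_of_ne hab with h | h
    · exact key a b h h1
    · exact key b a h h1.symm
  -- the minimal polynomial
  have : Module.Finite K K' := inferInstance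
  have hint : IsIntegral K ζ := Algebra.IsIntegral.isIntegral ζ
  obtain ⟨p, hpe⟩ : ∃ p, p = minpoly K ζ := ⟨_, rfl⟩
  have hpm : p.Monic := hpe ▸ minpoly.monic hint
  have hpi : Irreducible p := hpe ▸ minpoly.irreducible hint
  have hdeg : p.natDegree ≤ m := by
    rw [hpe]
    have := minpoly.natDegree_le (A := K) ζ
    rwa [FiniteField.finrank_extension K ch m] at this
  have hfro : ∀ x : K, i x ^ q = i x := by
    intro x
    rw [← map_pow]
    congr 1
    have : Fintype K := Fintype.ofFinite K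
    have h1 := FiniteField.pow_card x
    rwa [← Nat.card_eq_fintype_card, ← hqe] at h1
  -- `q` is a power of the characteristic: Frobenius is additive
  have hchq : ∃ n, q = ch ^ n := by
    have : Fintype K := Fintype.ofFinite K
    obtain ⟨n, -, hn⟩ := FiniteField.card K ch
    exact ⟨n, by rw [hqe, Nat.card_eq_fintype_card, hn]⟩
  have hcK' : CharP K' ch := charP_of_injective_algebraMap (algebraMap K K').injective ch
  have hroot : ∀ k : ℕ, (p.map i).IsRoot (ζ ^ q ^ k) := by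
    intro k
    induction k with
    | zero =>
      rw [pow_zero, pow_one, IsRoot, eval_map, hpe]
      exact minpoly.aeval K ζ
    | succ k ih =>
      obtain ⟨n, hn⟩ := hchq
      have h1 : (p.map i).map (iterateFrobenius K' ch n) = p.map i := by
        rw [Polynomial.map_map]
        congr 1
        refine RingHom.ext fun x => ?_
        rw [RingHom.comp_apply, iterateFrobenius_def, ← hn, hfro]
      rw [pow_succ, pow_mul, IsRoot, ← h1]
      have h2 : (ζ ^ q ^ k) ^ q = iterateFrobenius K' ch n (ζ ^ q ^ k) := by rw [iterateFrobenius_def, ← hn]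
      rw [h2, eval_map_apply]
      rw [IsRoot] at ih
      rw [ih, map_zero]
  have hpmap : p.map i = ∏ a, (X - C (μ a)) := by
    have h1 : (∏ a : Fin m, (X - C (μ a))) ∣ p.map i := by
      refine Finset.prod_dvd_of_coprime ?_ fun a _ => dvd_iff_isRoot.2 (hroot a)
      intro a _ b _ hab
      exact isCoprime_X_sub_C_of_isUnit_sub (sub_ne_zero.2 (fun h => hab (hinjμ h))).isUnit
    have h2 : (∏ a : Fin m, (X - C (μ a))).Monic := monic_prod_of_monic _ _ fun a _ => monic_X_sub_C _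
    have h3 : (∏ a : Fin m, (X - C (μ a))).natDegree = m := by
      rw [natDegree_prod_of_monic _ _ fun a _ => monic_X_sub_C _]
      simp
    refine (eq_of_monic_of_dvd_of_natDegree_le h2 (hpm.map i) h1 ?_)
    rw [h3, natDegree_map]
    exact hdeg
  have hpdeg : p.natDegree = m := by
    have h1 := congrArg natDegree hpmap
    rw [natDegree_map, natDegree_prod_of_monic _ _ fun a _ => monic_X_sub_C _] at h1
    simpa using h1
  have hp0 : i (p.coeff 0) = (-1) ^ m * ∏ a, μ a := by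
    have h1 : (p.map i).coeff 0 = i (p.coeff 0) := coeff_map i 0
    rw [← h1, hpmap, coeff_zero_eq_eval_zero, eval_prod]
    simp only [eval_sub, eval_X, eval_C, zero_sub]
    have h2 : ∀ a : Fin m, -μ a = (-1) * μ a := fun a => neg_eq_neg_one_mul _
    rw [Finset.prod_congr rfl fun a _ => h2 a, Finset.prod_mul_distrib, Finset.prod_const, Finset.card_univ,
      Fintype.card_fin]
  have hN0 : ∏ a, μ a ≠ 0 := Finset.prod_ne_zero_iff.2 fun a _ => pow_ne_zero _ hζ0
  have hsg : ((-1 : K') ^ m) * ((-1 : K') ^ m) = 1 := by rw [← pow_add, ← two_mul, pow_mul]; simp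
  have hp0' : p.coeff 0 ≠ 0 := by
    intro h
    rw [h, map_zero] at hp0
    exact (mul_ne_zero (pow_ne_zero _ (by simp)) hN0) hp0.symm
  obtain ⟨ν, hν⟩ : ∃ ν : K, ν = ((-1) ^ m * p.coeff 0)⁻¹ := ⟨_, rfl⟩
  have hiν : i ν = (∏ a, μ a)⁻¹ := by
    rw [hν, map_inv₀, map_mul, map_pow, map_neg, map_one, hp0, ← mul_assoc, hsg, one_mul]
  have hpν : p.eval ν ≠ 0 := by
    intro h
    exact hpi.not_isRoot_of_natDegree_ne_one (by omega) h
  have hiν0 : i ν ≠ 0 := by rw [hiν]; exact inv_ne_zero hN0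
  have hne : ∀ a : Fin m, i ν ≠ μ a := by
    intro a h
    apply hpν
    apply i.injective
    rw [map_zero, ← eval_map_apply, h]
    exact hroot a
  let lam : Fin (m + 1) → K' := Fin.cons (i ν) μ
  have hl0 : lam 0 = i ν := rfl
  have hls : ∀ a : Fin m, lam a.succ = μ a := fun a => rfl
  have hpr : ∏ a, lam a = 1 := by
    rw [Fin.prod_univ_succ, hl0]
    simp only [hls]
    rw [hiν, inv_mul_cancel₀ hN0]
  have hζN : ζ ^ N = 1 := by rw [← ho]; exact pow_orderOf_eq_one ζ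
  have hμN : ∀ a, μ a ^ N = 1 := fun a => by
    change (ζ ^ q ^ (a : ℕ)) ^ N = 1
    rw [← pow_mul, mul_comm, pow_mul, hζN, one_pow]
  refine ⟨K', inferInstance, inferInstance, i, ν, p, lam, ⟨hpm, hpi, by rw [hpdeg], hpν, ?_, ?_, ?_, ?_, hpr, ?_⟩,
    fun a => ?_⟩
  · rw [mul_coeff_zero, coeff_sub, coeff_X_zero, coeff_C_zero, zero_sub, hν]
    have h1 : ((-1 : K) ^ m) * ((-1 : K) ^ m) = 1 := by rw [← pow_add, ← two_mul, pow_mul]; simp
    have h2 : ((-1 : K) ^ m) ≠ 0 := pow_ne_zero _ (by simp)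
    field_simp
    rw [pow_succ]
    linear_combination (1 : K) * h1
  · rw [Polynomial.map_mul, Polynomial.map_sub, map_X, map_C, hpmap, Fin.prod_univ_succ, hl0]
    simp only [hls]
  · intro a b
    refine Fin.cases ?_ (fun a => ?_) a <;> refine Fin.cases ?_ (fun b => ?_) b
    · intro _; rfl
    · intro h; exact absurd h (hne b)
    · intro h; exact absurd h.symm (hne a)
    · intro h; exact congrArg Fin.succ (hinjμ h)
  · intro a
    refine Fin.cases ?_ (fun a => ?_) a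
    · exact hiν0
    · exact pow_ne_zero _ hζ0
  · have key : ∀ S : Finset (Fin (m + 1)), 0 ∉ S → S.Nonempty → ∏ a ∈ S, lam a ≠ 1 := by
      intro S h0 hS h1
      have h2 : S = (Finset.univ.filter fun a : Fin m => a.succ ∈ S).map (Fin.succEmb m) := by
        ext b
        rw [Finset.mem_map]
        constructor
        · intro hb
          obtain ⟨c, rfl⟩ := Fin.exists_succ_eq.2 (show b ≠ 0 from fun h => h0 (h ▸ hb))
          exact ⟨c, Finset.mem_filter.2 ⟨Finset.mem_univ _, hb⟩, rfl⟩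
        · rintro ⟨c, hc, rfl⟩
          exact (Finset.mem_filter.1 hc).2
      obtain ⟨T, hT⟩ : ∃ T, T = Finset.univ.filter fun a : Fin m => a.succ ∈ S := ⟨_, rfl⟩
      rw [← hT] at h2
      rw [h2, Finset.prod_map] at h1
      refine hsub T ?_ h1
      rw [h2] at hS
      exact (Finset.map_nonempty).1 hS
    intro S hS hSu h1
    by_cases h0 : (0 : Fin (m + 1)) ∈ S
    · -- the complement
      have h2 : ∏ a ∈ Sᶜ, lam a = 1 := by
        have h3 := Finset.prod_mul_prod_compl S lam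
        rw [h1, one_mul, hpr] at h3
        exact h3
      have h3 : (Sᶜ).Nonempty := by
        rw [Finset.nonempty_iff_ne_empty, Ne, Finset.compl_eq_empty_iff]
        exact hSu
      exact key _ (by simpa using h0) h3 h2
    · exact key S h0 hS h1
  · refine Fin.cases ?_ (fun a => ?_) a
    · rw [hl0, hiν, inv_pow, ← Finset.prod_pow, Finset.prod_congr rfl fun a _ => hμN a, Finset.prod_const_one, inv_one]
    · exact hμN a

end Cfsg.Agent.H85.Pw
end

-- part: H85/Pw/EBlk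
section
/-!
# `E_8(q)`, `E_7(q)`: products of two elements of prescribed order, one block of type `A_7`, `A_6` (S2465)

* `pairs_of_blk` : every element is `a b` with `a^N = b^N = 1`, `N ∣ q^m - 1`, `(q^m - 1)/(q - 1) < N`;
* `own_E8`, `own_E7` : products of two elements of order prime to the characteristic `r ≥ 5` (any `q ≥ 3`);
* `six_E8`, `six_E7` : order prime to `6`, if `q - 1` has a (large) divisor prime to `6`.
-/

set_option autoImplicit false
set_option linter.unusedSectionVars false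

namespace Cfsg.Agent.H85.Pw

open CoxeterSystem Cfsg.Agent.ChevalleyStructure.CoxeterGeom Cfsg.Agent.Tits.Roots Cfsg.Agent.Tits.Core
  Cfsg.Agent.Nodes.Reps Cfsg.Agent.Nodes.BNOf Cfsg.Agent.Nodes.RGDLib Cfsg.Agent.Nodes.Bruhat
  Cfsg.Agent.Nodes.OppDec Cfsg.Agent.Nodes.LeviDec Cfsg.Agent.Nodes.KindChev Cfsg.Agent.Nodes.ChevCls
  Cfsg.Agent.OddHalf.NI.ModelChev
  Cfsg.Agent.H162.GaussDec Cfsg.Agent.H162.GaussLevi Cfsg.Agent.H162.GaussSL
  Cfsg.Agent.H162.GaussMain Cfsg.Agent.H162.GaussPQ Cfsg.Agent.H162.GaussExc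
open Cfsg.Lie Cfsg.Agent.ChevalleyStructure Cfsg.Agent.ChevalleyStructure.Elts
  Cfsg.Agent.ChevalleyStructure.RootVec Cfsg.Agent.ChevalleyStructure.NPerm
  Cfsg.Agent.ChevalleyStructure.CoxeterGeomTypes Cfsg.Agent.Nodes.RGDChev Cfsg.Agent.KFacts.RgdChevCoord
open Cfsg.Agent.H928.Ore.Frame (NF LP)
open Cfsg.Agent.H224.Ore.Zeta (Zet)
open Cfsg.Agent.H85.Ore Cfsg.Agent.H78.Pw
open Polynomial (X C)

universe u

theorem conj_pow' {ι L : Type*} [Fintype ι] [DecidableEq ι] [Field L] (g : GL ι L) (d : Matrix ι ι L) (N : ℕ) :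
    ((g : Matrix ι ι L) * d * ((g⁻¹ : GL ι L) : Matrix ι ι L)) ^ N =
      (g : Matrix ι ι L) * d ^ N * ((g⁻¹ : GL ι L) : Matrix ι ι L) := by
  have h1 : ((g⁻¹ : GL ι L) : Matrix ι ι L) * (g : Matrix ι ι L) = 1 := by
    rw [← Units.val_mul, inv_mul_cancel]; rfl
  have h2 : (g : Matrix ι ι L) * ((g⁻¹ : GL ι L) : Matrix ι ι L) = 1 := by
    rw [← Units.val_mul, mul_inv_cancel]; rfl
  induction N with
  | zero => rw [pow_zero, pow_zero, mul_one, h2]
  | succ N ih =>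
    rw [pow_succ, ih, pow_succ]
    calc (g : Matrix ι ι L) * d ^ N * ((g⁻¹ : GL ι L) : Matrix ι ι L) *
          ((g : Matrix ι ι L) * d * ((g⁻¹ : GL ι L) : Matrix ι ι L))
        = (g : Matrix ι ι L) * d ^ N * (((g⁻¹ : GL ι L) : Matrix ι ι L) * (g : Matrix ι ι L)) * d *
            ((g⁻¹ : GL ι L) : Matrix ι ι L) := by simp only [mul_assoc]
      _ = _ := by rw [h1, mul_one]; simp only [mul_assoc]

theorem pow_eq_one {K K' : Type*} [Field K] [Field K'] {i : K →+* K'} {m : ℕ} {c : Matrix.SpecialLinearGroup (Fin m) K}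
    {lam : Fin m → K'} (hinj : Function.Injective lam) (hc : c.1.charpoly.map i = ∏ a, (X - C (lam a))) {N : ℕ}
    (hN : ∀ a, lam a ^ N = 1) : c ^ N = 1 := by
  obtain ⟨g, hg⟩ := Cfsg.Agent.H934.MF.diag_map i c.1 hinj hc
  have h1 : (c ^ N : Matrix.SpecialLinearGroup (Fin m) K).1 = c.1 ^ N := Matrix.SpecialLinearGroup.coe_pow c N
  have h2 : (c.1 ^ N).map i = (c.1.map i) ^ N := map_pow i.mapMatrix c.1 N
  have h3 : lam ^ N = fun _ => (1 : K') := by funext a; exact hN a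
  have h4 : Matrix.diagonal (fun _ : Fin m => (1 : K')) = 1 := Matrix.diagonal_one
  have h5 : (c.1 ^ N).map i = 1 := by
    rw [h2, hg, conj_pow', Matrix.diagonal_pow, h3, h4, mul_one, ← Units.val_mul, mul_inv_cancel]
    rfl
  have h6 : (1 : Matrix (Fin m) (Fin m) K).map i = 1 := Matrix.map_one _ (map_zero i) (map_one i)
  have h7 : c.1 ^ N = 1 := Matrix.map_injective i.injective (h5.trans h6.symm)
  exact Subtype.ext (h1.trans h7)

section

variable {D : ChevalleyDatum} {l : ℕ} {M : CoxeterMatrix (Fin l)} (hp : IsType D l M) {K : Type u} [Field K] [Finite K]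
  (hq : 3 ≤ Nat.card K) {J : List (Fin l)} {n : ℕ} {r : Fin (n + 2) → Fin (n + 2) → ℕ} {j : Fin (n + 1) → Fin l}

include hq in
/-- **The class of the block, with the order.** -/
theorem exists_classN (hn : 1 ≤ n) {N : ℕ} (hN : N ∣ Nat.card K ^ (n + 1) - 1)
    (hlt : ∑ a ∈ Finset.range (n + 1), Nat.card K ^ a < N) (hW : ChkW D l J n j)
    (hphi' : ∀ (F : Type) [Field F], ∃ φ : Matrix.SpecialLinearGroup (Fin (n + 2)) F →* ↥(D.group F),
      ∀ a b (hab : a ≠ b) c, φ (Matrix.SpecialLinearGroup.transvection hab c) =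
        xc hp (vec D l (r a b)) (((-1 : ℤ) : F) * c))
    (hr : ∀ a b, a ≠ b → r a b < D.nroots) (hrJ : ∀ a b, a ≠ b → ∀ k, k ∉ J → vec D l (r a b) k = 0)
    (hneg : ∀ a b, a ≠ b → r b a = D.neg (r a b)) (hj : ∀ a : Fin (n + 1), r a.castSucc a.succ = D.simple (j a))
    {φ : Matrix.SpecialLinearGroup (Fin (n + 2)) K →* ↥(D.group K)}
    (hφ : ∀ a b (hab : a ≠ b) c, φ (Matrix.SpecialLinearGroup.transvection hab c) =
      xc hp (vec D l (r a b)) (((-1 : ℤ) : K) * c)) :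
    ∃ c₀ : Matrix.SpecialLinearGroup (Fin (n + 2)) K, c₀ ^ N = 1 ∧ OneClass hp K J φ c₀ := by
  obtain ⟨K', iF, iK, i, ν, p, lam, Z, hZ⟩ := exists_zetN K (m := n + 1) (by omega) hN hlt
  obtain ⟨c₀, h1, h2, h3⟩ := Cfsg.Agent.H150.MF.mf_poly hq (n := n + 2) (by omega) Z.monic Z.deg Z.c0 Z.nu
  have key : ∀ g : Matrix.SpecialLinearGroup (Fin (n + 2)) K,
      NF (VJ M.toCoxeterSystem hp.isCartan (XX D l K) {k | k ∈ J}) (φ (g * c₀ * g⁻¹)) ∧
        NF (VNJ M.toCoxeterSystem hp.isCartan (XX D l K) {k | k ∈ J}) (φ (g * c₀ * g⁻¹)) := by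
    intro x
    obtain ⟨g, hg⟩ := Cfsg.Agent.H934.MF.diag_map i (x * c₀ * x⁻¹).1 Z.inj (by rw [charpoly_conj, h1]; exact Z.split)
    obtain ⟨φ', hφ'⟩ := hphi' K'
    obtain ⟨ch, hch⟩ := CharP.exists K'
    have := Fintype.ofFinite K'
    have : Fact ch.Prime := ⟨(CharP.char_is_prime_or_zero K' ch).resolve_right (CharP.char_ne_zero_of_finite K' ch)⟩
    have B : Cfsg.Agent.H482.Ore.Fix.Bk hp i {k | k ∈ J} n r j φ φ' (fun _ _ => ((-1 : ℤ) : K)) :=
      { simp := ⟨hj, fun a => by rw [← hj a]; exact hneg _ _ (cs_ne a)⟩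
        rlt := hr
        rJ := hrJ
        hφ := hφ
        hφ' := fun a b hab c => by rw [hφ' a b hab c, map_intCast]
        ss := fun a => by simp }
    exact Cfsg.Agent.H482.Ore.Fix.nf_block' hp ch B (g := g) hg fun q hq hk => ne_one' Z hW hq hk
  exact ⟨c₀, pow_eq_one Z.inj (by rw [h1]; exact Z.split) hZ, h3, fun g => (key g).1, fun g => (key g).2⟩

end

section

variable {D : ChevalleyDatum} {l : ℕ} {M : CoxeterMatrix (Fin l)} (hp : IsType D l M) {K : Type u} [Field K] [Finite K]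
  (hl : 0 < l) (hG : IsSimpleGroup ↥(D.group K) ∧ ¬ IsMulCommutative ↥(D.group K))
  (hM : ∀ J : Finset (Fin l), J = ∅ ∨ J = Finset.univ ∨ ∃ a ∈ J, ∃ b, b ∉ J ∧ M a b ≠ 2)
  {J : List (Fin l)} {e : Fin l → ℤ} {ω : List (Fin l)} {n : ℕ} {r : Fin (n + 2) → Fin (n + 2) → ℕ}
  (TB : TabB D l J e ω n r)
  {φ : Matrix.SpecialLinearGroup (Fin (n + 2)) K →* ↥(D.group K)} {s : Fin (n + 2) → Fin (n + 2) → K}
  (hs : ∀ a b, s a b ≠ 0)
  (hφ : ∀ a b (hab : a ≠ b) c, φ (Matrix.SpecialLinearGroup.transvection hab c) = xc hp (vec D l (r a b)) (s a b * c))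
  {c₀ : Matrix.SpecialLinearGroup (Fin (n + 2)) K} (hc : OneClass hp K J φ c₀)

include hl hG hM TB hs hφ hc in
/-- **Every element is a product of two elements from the class of the block.** -/
theorem pairs_of_blk {N : ℕ} (hN : c₀ ^ N = 1) (g : ↥(D.group K)) : ∃ a b : ↥(D.group K), g = a * b ∧ a ^ N = 1 ∧ b ^ N = 1 := by
  obtain ⟨p, hpc⟩ := CharP.exists K
  have := Fintype.ofFinite K
  have : Fact p.Prime := ⟨(CharP.char_is_prime_or_zero K p).resolve_right (CharP.char_ne_zero_of_finite K p)⟩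
  have := finite_W hp M.toCoxeterSystem
  have : Nonempty (Fin l) := ⟨⟨0, hl⟩⟩
  by_cases hg : g ∈ (RGD.B M.toCoxeterSystem hp.isCartan (TT D K) (XX D l K)).normalCore
  · rw [one_of_core hp hl hG.1 hg]
    exact ⟨1, 1, by simp, one_pow _, one_pow _⟩
  · obtain ⟨c₁, c₂, x, y, ⟨h1, h2⟩, h3⟩ := Cfsg.Agent.H928.Ore.Frame.pair (rgd (K := K) hp M.toCoxeterSystem p)
      (G1_eq_top hp _) (coord hp) (Cfsg.Agent.Nodes.ChevChart.irr_of hM) (J := {k | k ∈ J})
      (Pr := fun c₁ c₂ : ↥(D.group K) => c₁ ^ N = 1 ∧ c₂ ^ N = 1) (fun v hv w hw => by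
        obtain ⟨x, y, h1, h2⟩ := levi_pairs hp TB hs hφ hc hv hw
        refine ⟨_, _, h1, h2, ?_, ?_⟩
        · rw [← map_pow, conj_pow, hN, mul_one, mul_inv_cancel, map_one]
        · rw [← map_pow, conj_pow, inv_pow, hN, inv_one, mul_one, mul_inv_cancel, map_one]) hg
    exact ⟨_, _, h3, by rw [conj_pow, h1, mul_one, mul_inv_cancel], by rw [conj_pow, h2, mul_one, mul_inv_cancel]⟩

end

theorem all_of_pairs {G : Type*} [Group G] {N n : ℕ} (hn : N.Coprime n)
    (h : ∀ g : G, ∃ a b : G, g = a * b ∧ a ^ N = 1 ∧ b ^ N = 1) : All n G := by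
  intro g
  obtain ⟨a, b, h1, h2, h3⟩ := h g
  exact ⟨a, b, h1, Nat.Coprime.of_dvd_left (orderOf_dvd_of_pow_eq_one h2) hn,
    Nat.Coprime.of_dvd_left (orderOf_dvd_of_pow_eq_one h3) hn⟩

section

variable (K : Type u) [Field K] [Finite K] (hq : 3 ≤ Nat.card K)

include hq in
theorem pairs_E8 {N : ℕ} (hN : N ∣ Nat.card K ^ 7 - 1) (hlt : ∑ a ∈ Finset.range 7, Nat.card K ^ a < N) :
    ∀ g : ↥(chevE8.group K), ∃ a b : ↥(chevE8.group K), g = a * b ∧ a ^ N = 1 ∧ b ^ N = 1 := by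
  obtain ⟨φ, hφ⟩ := exists_phi8 K
  obtain ⟨c₀, hc0, hc⟩ := exists_classN (n := 6) (j := j8) Cfsg.Agent.Nodes.KindE.isType8 hq (by norm_num) hN hlt chkW8
    (fun F _ => exists_phi8 F) ch8a.1 ch8a.2 rt8.2.2.2 r8_simple hφ
  exact pairs_of_blk Cfsg.Agent.Nodes.KindE.isType8 (by norm_num) (Cfsg.Agent.S1054.result chevE8 (by simp))
    Cfsg.Agent.Nodes.ChevChart.irr8 tab8 (s := fun _ _ => ((-1 : ℤ) : K)) (fun _ _ => by simp) hφ hc hc0

include hq in
theorem pairs_E7 {N : ℕ} (hN : N ∣ Nat.card K ^ 6 - 1) (hlt : ∑ a ∈ Finset.range 6, Nat.card K ^ a < N) :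
    ∀ g : ↥(chevE7.group K), ∃ a b : ↥(chevE7.group K), g = a * b ∧ a ^ N = 1 ∧ b ^ N = 1 := by
  obtain ⟨φ, hφ⟩ := exists_phi7 K
  obtain ⟨c₀, hc0, hc⟩ := exists_classN (n := 5) (j := j7) Cfsg.Agent.Nodes.KindE.isType7 hq (by norm_num) hN hlt chkW7
    (fun F _ => exists_phi7 F) ch7a.1 ch7a.2 rt7.2.2.2 r7_simple hφ
  exact pairs_of_blk Cfsg.Agent.Nodes.KindE.isType7 (by norm_num) (Cfsg.Agent.S1054.result chevE7 (by simp))
    Cfsg.Agent.Nodes.ChevChart.irr7 tab7 (s := fun _ _ => ((-1 : ℤ) : K)) (fun _ _ => by simp) hφ hc hc0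

/-- `q^m - 1` is prime to the characteristic -/
theorem coprime_card {p : ℕ} [Fact p.Prime] [CharP K p] {m : ℕ} (hm : m ≠ 0) : (Nat.card K ^ m - 1).Coprime p := by
  have := Fintype.ofFinite K
  obtain ⟨n, hp, hn⟩ := FiniteField.card K p
  have h1 : p ∣ Nat.card K ^ m := by
    rw [Nat.card_eq_fintype_card, hn, ← pow_mul]
    exact dvd_pow_self p (mul_ne_zero n.ne_zero hm)
  have h2 : 1 ≤ Nat.card K ^ m := Nat.one_le_pow _ _ Nat.card_pos
  rw [Nat.coprime_comm, Nat.Prime.coprime_iff_not_dvd hp]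
  intro h3
  have h4 := (Nat.dvd_sub h1 h3)
  rw [Nat.sub_sub_self h2] at h4
  exact hp.one_lt.ne' (Nat.dvd_one.1 h4)

theorem sum_lt {q : ℕ} (hq : 3 ≤ q) {m : ℕ} (hm : 1 ≤ m) : ∑ a ∈ Finset.range m, q ^ a < q ^ m - 1 := by
  have := Cfsg.Agent.H224.Ore.Zeta.sum_pow_lt hq hm Finset.univ
  rwa [Fin.sum_univ_eq_sum_range (fun a => q ^ a) m] at this

include hq in
/-- **own characteristic** -/
theorem own_E8 (p : ℕ) [Fact p.Prime] [CharP K p] : All p ↥(chevE8.group K) :=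
  all_of_pairs (coprime_card K (by norm_num)) (pairs_E8 K hq (dvd_refl _) (sum_lt hq (by norm_num)))

include hq in
/-- **own characteristic** -/
theorem own_E7 (p : ℕ) [Fact p.Prime] [CharP K p] : All p ↥(chevE7.group K) :=
  all_of_pairs (coprime_card K (by norm_num)) (pairs_E7 K hq (dvd_refl _) (sum_lt hq (by norm_num)))

end

end Cfsg.Agent.H85.Pw
end
end
end
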