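import Cfsg.Agent.H194.Ore.RowThree_m3
import Cfsg.Agent.H85.Ore.Phi_mg_m3
import Cfsg.Agent.TitsThree.RTFast
import Cfsg.Agent.Prune
set_option linter.all false
prune_inst 0x7f00000000000000000000000000000000000000000000000000000000000000000000000000000000000000000000000000000000000000000000000000000000000000000000000000000000000000003fffffffffffffffffffffffffffbeffbdffffffff
open scoped Cfsg.Agent.FastGrp

namespace Cfsg.Agent.H90F

private noncomputable def frc {α : Type} (x : ℕ) (f : ℕ → α) : α := Nat.rec (f 0) (fun k _ => f (Nat.succ k)) x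

private theorem frc_eq {α : Type} (x : ℕ) (f : ℕ → α) : frc x f = f x := by cases x <;> rfl

private noncomputable def nth {α : Type} (d : α) (l : List α) : ℕ → α :=
  List.rec (fun _ => d) (fun a _ ih n => Nat.rec a (fun k _ => ih k) n) l

private theorem nth_eq {α : Type} (d : α) (l : List α) (n : ℕ) : nth d l n = l.getD n d := by
  induction l generalizing n with
  | nil => rfl
  | cons a l ih => cases n with
    | zero => rfl
    | succ k => exact ih k

private theorem nth_arr {α : Type} (d : α) (a : Array α) (n : ℕ) : a.getD n d = nth d a.toList n := by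
  rw [nth_eq, List.getD_eq_getElem?_getD, Array.getD_eq_getD_getElem?, Array.getElem?_toList]

private noncomputable def row (D : Cfsg.Lie.ChevalleyDatum) (r : ℕ) : List (ℕ × Array (ℕ × ℤ)) := (nth #[] D.chain.toList r).toList

private noncomputable def fnd (s : ℕ) (l : List (ℕ × Array (ℕ × ℤ))) : List (ℕ × ℤ) :=
  List.rec [] (fun e _ ih => Bool.rec ih e.2.toList (Nat.beq e.1 s)) l

private theorem ce_eq0 (D : Cfsg.Lie.ChevalleyDatum) (r s : ℕ) : D.chainEntry r s = fnd s (row D r) := by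
  unfold Cfsg.Lie.ChevalleyDatum.chainEntry row
  rw [nth_arr]
  generalize (nth #[] D.chain.toList r).toList = l
  induction l with
  | nil => rfl
  | cons e l ih =>
    show _ = (Bool.rec (fnd s l) e.2.toList (Nat.beq e.1 s) : List (ℕ × ℤ))
    by_cases h : e.1 = s
    · rw [List.find?_cons_of_pos (by simpa using h), Nat.beq_eq.mpr h]
    · rw [List.find?_cons_of_neg (by simpa using h), ih, Bool.eq_false_iff.2 fun h1 => h (Nat.eq_of_beq_eq_true h1)]

private noncomputable def fce (D : Cfsg.Lie.ChevalleyDatum) (r s : ℕ) : List (ℕ × ℤ) := frc r fun r => frc s fun s => fnd s (row D r)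

private theorem ce_eq (D : Cfsg.Lie.ChevalleyDatum) : D.chainEntry = fce D := by
  funext r s
  rw [fce, frc_eq, frc_eq, ce_eq0]

private noncomputable def fcr (D : Cfsg.Lie.ChevalleyDatum) (r s i : ℕ) : Option ℕ := ((fce D r s)[i - 1]?).map Prod.fst

private theorem cr_eq (D : Cfsg.Lie.ChevalleyDatum) : D.chainRoot = fcr D := by
  funext r s i
  rw [fcr, ← ce_eq]; rfl

private noncomputable def fng (D : Cfsg.Lie.ChevalleyDatum) (r : ℕ) : ℕ := frc r (nth 0 D.negIdx.toList)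

private theorem ng_eq (D : Cfsg.Lie.ChevalleyDatum) : D.neg = fng D := by
  funext r
  rw [fng, frc_eq]
  exact nth_arr _ _ _

private noncomputable def fsi (D : Cfsg.Lie.ChevalleyDatum) (i : ℕ) : ℕ := frc i (nth 0 D.simpleIdx.toList)

private theorem si_eq (D : Cfsg.Lie.ChevalleyDatum) : D.simple = fsi D := by
  funext r
  rw [fsi, frc_eq]
  exact nth_arr _ _ _

private noncomputable def fca (D : Cfsg.Lie.ChevalleyDatum) (i s : ℕ) : ℤ :=
  frc i fun i => frc s (nth 0 (nth #[] D.cartanSR.toList i).toList)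

private theorem ca_eq (D : Cfsg.Lie.ChevalleyDatum) : D.cartan = fca D := by
  funext i s
  rw [fca, frc_eq, frc_eq, ← nth_arr, ← nth_arr]
  rfl

private noncomputable def frr (D : Cfsg.Lie.ChevalleyDatum) (i s : ℕ) : ℕ :=
  frc i fun i => frc s fun s => frc (fsi D i) fun p => frc (fng D p) fun q =>
    Bool.rec (Bool.rec
      (Int.rec (fun a => Nat.rec s (fun k _ => (fcr D q s (Nat.succ k)).getD s) a)
        (fun k => (fcr D p s (Nat.succ k)).getD s) (fca D i s))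
      p (Nat.beq s q)) q (Nat.beq s p)

private theorem rr_eq (D : Cfsg.Lie.ChevalleyDatum) : D.reflectRoot = frr D := by
  funext i s
  rw [frr, frc_eq, frc_eq, frc_eq, frc_eq, ← cr_eq, ← ng_eq, ← si_eq, ← ca_eq]
  unfold Cfsg.Lie.ChevalleyDatum.reflectRoot
  dsimp only
  by_cases h1 : s = D.simple i
  · rw [if_pos h1, Nat.beq_eq.mpr h1]
  rw [if_neg h1, Bool.eq_false_iff.2 fun h => h1 (Nat.eq_of_beq_eq_true h)]
  by_cases h2 : s = D.neg (D.simple i)
  · rw [if_pos h2, Nat.beq_eq.mpr h2]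
  rw [if_neg h2, Bool.eq_false_iff.2 fun h => h2 (Nat.eq_of_beq_eq_true h)]
  generalize D.cartan i s = A
  rcases A with (_ | k) | k
  · rfl
  · exact if_pos (Int.ofNat_succ_pos k)
  · rw [if_neg (Int.negSucc_lt_zero k).not_gt, if_pos (Int.negSucc_lt_zero k)]; rfl

private theorem rr_fun : Cfsg.Lie.ChevalleyDatum.reflectRoot = frr := funext rr_eq

private theorem ng_fun : Cfsg.Lie.ChevalleyDatum.neg = fng := funext ng_eq

private theorem si_fun : Cfsg.Lie.ChevalleyDatum.simple = fsi := funext si_eq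

private theorem ca_fun : Cfsg.Lie.ChevalleyDatum.cartan = fca := funext ca_eq

end Cfsg.Agent.H90F
attribute [local instance] Cfsg.Agent.TitsThree.RTFast.decRTb Cfsg.Agent.TitsThree.RTFast.decRTc

/-!
# The rows `E₆(q)` and `F₄(q)`, `q ≥ 4` (S2443, S4171)

* `E₆` : `J = {2, 4}` (Bourbaki), `s₀ = h₁(t) h₆(t)`, `γ` the graph automorphism;
* `F₄` : `J` the long nodes, `s₀ = h(t)` for the outer short node, `γ = 1`;
`ω` is a word of the longest element.
-/

set_option autoImplicit false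

namespace Cfsg.Agent.H194.Ore

open Cfsg.Lie Cfsg.Agent.TitsThree.KExcRT Cfsg.Agent.ChevalleyStructure Cfsg.Agent.Nodes.RGDChev
open Cfsg.Agent.H162.GaussExc (fr)
open Cfsg.Agent.H162.GaussExcMain (r6 w6 rt6 chk6'' wF ChkSub)
open Cfsg.Agent.H777.Ore

universe u

theorem a6 : ChkA chevE6 6 [3, 1] ![1, 0, 0, 0, 0, 1] w6 r6 3 1 := by (delta Cfsg.Agent.H194.Ore.ChkA Cfsg.Agent.H162.GaussExc.fr; rewrite [H90F.rr_fun, H90F.si_fun, H90F.ca_fun]; decide +kernel)

theorem g6 : ChkG chevE6 6 ![1, 0, 0, 0, 0, 1] ![5, 1, 4, 3, 2, 0] w6 := by (delta Cfsg.Agent.H194.Ore.ChkG Cfsg.Agent.H162.GaussExc.fr; rewrite [H90F.rr_fun, H90F.ng_fun, H90F.si_fun, H90F.ca_fun]; decide +kernel)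

theorem v6 : ChkW chevE6 6 [0, 5] r6 := by decide +kernel

theorem o6 : ChkO chevE6 6 [3, 1] ![1, 0, 0, 0, 0, 1] 3 1 := by decide +kernel

theorem m6 : ChkM chevE6 6 ![1, 0, 0, 0, 0, 1] [0, 5] := by (delta Cfsg.Agent.H162.GaussExc.fr Cfsg.Agent.H194.Ore.ChkM; rewrite [H90F.rr_fun, H90F.ca_fun]; decide +kernel)

theorem tab6 : Tab chevE6 6 [3, 1] ![1, 0, 0, 0, 0, 1] ![5, 1, 4, 3, 2, 0] w6 [0, 5] r6 1 3 1 where
  hi := a6.1
  hj := a6.2.1
  ra := rt6.1
  rb := rt6.2.1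
  rc := rt6.2.2.1
  rn := rt6.2.2.2
  rJ := a6.2.2.1
  sub := chk6''
  m0 := a6.2.2.2.1
  out := o6
  gg := g6.1
  wg := g6.2.1
  wr := a6.2.2.2.2
  mg := g6.2.2
  w1 := v6
  wm := m6

/-- **`E₆(q)`, `q ≥ 4`**, from the product lemma in `SL₃(q)` -/
theorem rowE6_of {K : Type u} [Field K] [Finite K] (hK : 4 ≤ Nat.card K) (hm3 : M3 K) :
    AllC ↥(chevE6.group K) ∧ Inv4 ↥(chevE6.group K) :=
  row Cfsg.Agent.Nodes.KindE.isType6 hK (by norm_num) tab6 (Cfsg.Agent.S1054.result chevE6 (by simp))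
    Cfsg.Agent.Nodes.ChevChart.irr6 Cfsg.Agent.H129.TorusChar.invC_E6 (by decide) hm3

/-! ### `F₄` -/

/-- the roots of the block of the long nodes -/
def rL : Fin 3 → Fin 3 → ℕ := ![![0, 24, 26], ![23, 0, 25], ![21, 22, 0]]

theorem rtL : RTa chevF4 rL ∧ (RTb chevF4 rL fun _ _ => 1) ∧ RTc chevF4 rL ∧
    ∀ i j, i ≠ j → rL j i = chevF4.neg (rL i j) := by decide +kernel

theorem subL : ChkSub chevF4 4 [3, 2] 1 rL := by decide +kernel

theorem aL : ChkA chevF4 4 [3, 2] ![1, 0, 0, 0] wF rL 3 2 := by (delta Cfsg.Agent.H194.Ore.ChkA Cfsg.Agent.H162.GaussExc.fr; rewrite [H90F.rr_fun, H90F.si_fun, H90F.ca_fun]; decide +kernel)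

theorem gL : ChkG chevF4 4 ![1, 0, 0, 0] id wF := by decide +kernel

theorem vL : ChkW chevF4 4 [0] rL := by decide +kernel

theorem oL : ChkO chevF4 4 [3, 2] ![1, 0, 0, 0] 3 2 := by decide +kernel

theorem mL : ChkM chevF4 4 ![1, 0, 0, 0] [0] := by (delta Cfsg.Agent.H162.GaussExc.fr Cfsg.Agent.H194.Ore.ChkM; rewrite [H90F.rr_fun, H90F.ca_fun]; decide +kernel)

theorem tabL : Tab chevF4 4 [3, 2] ![1, 0, 0, 0] id wF [0] rL 1 3 2 where
  hi := aL.1
  hj := aL.2.1
  ra := rtL.1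
  rb := rtL.2.1
  rc := rtL.2.2.1
  rn := rtL.2.2.2
  rJ := aL.2.2.1
  sub := subL
  m0 := aL.2.2.2.1
  out := oL
  gg := gL.1
  wg := gL.2.1
  wr := aL.2.2.2.2
  mg := gL.2.2
  w1 := vL
  wm := mL

/-- **`F₄(q)`, `q ≥ 4`**, from the product lemma in `SL₃(q)` -/
theorem rowF4_of {K : Type u} [Field K] [Finite K] (hK : 4 ≤ Nat.card K) (hm3 : M3 K) :
    AllC ↥(chevF4.group K) ∧ Inv4 ↥(chevF4.group K) :=
  row Cfsg.Agent.Nodes.KindF.isType hK (by norm_num) tabL (Cfsg.Agent.S1054.result chevF4 (by simp))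
    Cfsg.Agent.Nodes.ChevChart.irrF Cfsg.Agent.H129.TorusChar.invC_F4 (by decide) hm3

/-! ### The product lemma -/

theorem m3_of_four {K : Type u} [Field K] [Finite K] (hK : 4 ≤ Nat.card K) : M3 K := by
  intro L hL U hU
  obtain ⟨X, Y, h1, h2, h3, h4⟩ := Cfsg.Agent.H126.M3.m3_lu hK L U hL hU
  exact ⟨X, Y, h1, h2, h3, h4.imp And.left And.left⟩

/-- **`E₆(q)`, `q ≥ 4`** -/
theorem rowE6 {K : Type u} [Field K] [Finite K] (hK : 4 ≤ Nat.card K) :
    AllC ↥(chevE6.group K) ∧ Inv4 ↥(chevE6.group K) := rowE6_of hK (m3_of_four hK)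

/-- **`F₄(q)`, `q ≥ 4`** -/
theorem rowF4 {K : Type u} [Field K] [Finite K] (hK : 4 ≤ Nat.card K) :
    AllC ↥(chevF4.group K) ∧ Inv4 ↥(chevF4.group K) := rowF4_of hK (m3_of_four hK)

end Cfsg.Agent.H194.Ore
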